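import Cfsg.Agent.Lib.CIT.SzPrimeGraph
import Cfsg.Agent.Lib.Lie.Suzuki.Fix
import Cfsg.Agent.S0333

/-!
# Suzuki groups without three orders (S4371)
-/

set_option autoImplicit false
set_option linter.all false

namespace CfsgLib.ThreeOrders

open Subgroup CfsgLib.CIT CfsgLib.Lie.Suzuki

universe u

/-- A simple CIT group of order prime to three is a Suzuki group. -/
theorem exists_iso_sz {L : Type u} [Group L] [Finite L] [IsSimpleGroup L] (hna : ¬ IsMulCommutative L)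
    (hC : CIT L) (h2 : 2 ∣ Nat.card L) (h3 : ¬ 3 ∣ Nat.card L) :
    ∃ (F : Type) (_ : Field F) (_ : Fintype F) (l : ℕ), 1 ≤ l ∧ Fintype.card F = 2 ^ (2 * l + 1) ∧
      Nonempty (L ≃* Cfsg.Sz F l) := by
  classical
  obtain ⟨T, H, a, b, μ, K⟩ := SuzukiRecog.exists_kern_cit hna hC h2 h3
  letI := Fintype.ofFinite (L ⧸ Subgroup.normalizer (T : Set L))
  obtain ⟨⟨l, hl⟩, hμ⟩ := SuzukiRecog.kern_log K
  haveI : Fintype (GaloisField 2 μ) := Fintype.ofFinite _
  have hF' : Fintype.card (GaloisField 2 μ) = 2 ^ (2 * l + 1) := by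
    rw [← Nat.card_eq_fintype_card, GaloisField.card 2 μ (by omega), hl]
  have hl1 : 1 ≤ l := by omega
  obtain ⟨e0⟩ := SuzukiRecog.nonempty_mulEquiv_sz_of_kern K hl1 hl hF'
  exact ⟨GaloisField 2 μ, inferInstance, inferInstance, l, hl1, hF', ⟨e0.trans (equivLie hl1 hF').symm⟩⟩

/-- A CIT group is no proper extension of a Suzuki group. -/
theorem top_of_suzuki {G : Type u} [Group G] [Finite G] (hC : CIT G) {L : Subgroup G} [L.Normal]
    (hLC : centralizer (L : Set G) = ⊥) {F : Type} [Field F] [Fintype F] {l : ℕ} (hl1 : 1 ≤ l)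
    (hF : Fintype.card F = 2 ^ (2 * l + 1)) (e : L ≃* Cfsg.Sz F l) : L = ⊤ := by
  classical
  haveI : Finite (Cfsg.Sz F l) := Subtype.finite
  haveI : CharP F 2 := charTwo_of_card hF
  refine eq_top_iff.2 fun g _ => ?_
  let φ : MulAut (Cfsg.Sz F l) := MulAut.congr e (MulAut.conjNormal g)
  obtain ⟨γ, g0, hg0⟩ := CfsgLib.Known.SuzukiAut.exists_inner_field (hF := hF) hl1 φ
  set y : G := ((e.symm g0 : L) : G)⁻¹ * g with hy
  have hconj : ∀ x : L, (y * x * y⁻¹ : G) = ((e.symm (CfsgLib.Known.SuzukiAut.fa γ (e x)) : L) : G) := by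
    intro x
    have h1 : φ (e x) = MulAut.conj g0 (CfsgLib.Known.SuzukiAut.fa γ (e x)) := by rw [hg0]; rfl
    have h2 : φ (e x) = e (MulAut.conjNormal g x) := by simp [φ, MulAut.congr]
    rw [h2, MulAut.conj_apply] at h1
    have h3 := congrArg (fun w => ((e.symm w : L) : G)) h1
    simp only [MulEquiv.symm_apply_apply, map_mul, map_inv, coe_mul, coe_inv, MulAut.conjNormal_apply] at h3
    rw [hy]
    calc _ = ((e.symm g0 : L) : G)⁻¹ * (g * x * g⁻¹) * ((e.symm g0 : L) : G) := by group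
      _ = _ := by rw [h3]; group
  -- the field automorphism fixes an involution
  set z : Cfsg.Sz F l := uS hF 0 1 with hz
  haveI : CharP F 2 := charTwo_of_card hF
  have hz1 : z ≠ 1 := by
    intro e1
    have h1 := uS_zero (hF := hF) (0 : F) 1
    rw [← hz, e1, one_smul] at h1
    simpa using (CfsgLib.Lie.Suzuki.pt F l).injective h1
  have hz2 : z * z = 1 := by
    rw [hz, uS_mul, ← uS_one hF]
    simp [CharTwo.add_self_eq_zero]
  have hzf : CfsgLib.Known.SuzukiAut.fa γ z = z := by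
    rw [hz, CfsgLib.Known.SuzukiAut.fa_uS, map_zero, map_one]
  have hzo : orderOf ((e.symm z : L) : G) = 2 := by
    rw [orderOf_coe, e.symm.orderOf_eq]
    exact CfsgLib.Signalizer.orderOf_eq_two_of hz1 hz2
  have hyc : y ∈ centralizer ({((e.symm z : L) : G)} : Set G) := by
    rw [mem_centralizer_singleton_iff]
    refine mul_inv_eq_iff_eq_mul.1 ?_
    rw [hconj (e.symm z), e.apply_symm_apply, hzf]
  obtain ⟨k, hk⟩ := orderOf_two_pow_of_mem (hC _ hzo) hyc
  -- the field automorphisms have odd order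
  have hpow : ∀ (n : ℕ) (x : L), (y ^ n * x * (y ^ n)⁻¹ : G) =
      ((e.symm (CfsgLib.Known.SuzukiAut.faHom (γ ^ n) (e x)) : L) : G) := by
    intro n
    induction n with
    | zero => intro x; simp
    | succ n ih =>
      intro x
      rw [pow_succ', show y * y ^ n * (x : G) * (y * y ^ n)⁻¹ = y * (y ^ n * x * (y ^ n)⁻¹) * y⁻¹ by group,
        ih, hconj, e.apply_symm_apply, pow_succ', map_mul]
      rfl
  have hγ : γ ^ (2 * l + 1) = 1 := by
    haveI : Fact (Nat.Prime 2) := ⟨Nat.prime_two⟩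
    rw [← (CfsgLib.Known.AutPSL.card_ringAut hF (by omega : 1 ≤ 2 * l + 1)).1]
    exact pow_card_eq_one'
  have hmem : y ^ (2 * l + 1) ∈ centralizer (L : Set G) := by
    rw [mem_centralizer_iff]
    intro x hx
    have h1 := hpow (2 * l + 1) ⟨x, hx⟩
    rw [hγ, map_one, MulAut.one_apply, e.symm_apply_apply] at h1
    exact (mul_inv_eq_iff_eq_mul.1 h1).symm
  rw [hLC, mem_bot, ← orderOf_dvd_iff_pow_eq_one, hk] at hmem
  have hk0 : k = 0 := by
    by_contra hk0
    have h2' := (dvd_pow_self 2 hk0).trans hmem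
    omega
  rw [hk0, pow_zero, orderOf_eq_one_iff] at hk
  have : g = ((e.symm g0 : L) : G) := by rw [hy, inv_mul_eq_one] at hk; exact hk.symm
  rw [this]
  exact SetLike.coe_mem _

variable {F : Type} [Field F] [Fintype F] {m : ℕ}

/-- The torus orders. -/
theorem exists_orderOf_sz (hm : 1 ≤ m) (hF : Fintype.card F = 2 ^ (2 * m + 1)) {k : ℕ}
    (hk : k = 2 ^ (2 * m + 1) - 1 ∨ k = 2 ^ (2 * m + 1) + 2 ^ (m + 1) + 1 ∨
      k = 2 ^ (2 * m + 1) - 2 ^ (m + 1) + 1) : ∃ g : Cfsg.Sz F m, orderOf g = k := by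
  classical
  haveI : Finite (Cfsg.Sz F m) := Subtype.finite
  haveI : CharP F 2 := charTwo_of_card hF
  rcases hk with rfl | hk
  · obtain ⟨t, ht⟩ := IsCyclic.exists_generator (α := Fˣ)
    refine ⟨tS hF t, ?_⟩
    rw [orderOf_injective _ (tS_injective hF) t, orderOf_eq_card_of_forall_mem_zpowers ht,
      Nat.card_units, Nat.card_eq_fintype_card, hF]
  · obtain ⟨U, hU, hc, -, -⟩ := Cfsg.Agent.S0333.result hm hF k (by simpa using hk)
    obtain ⟨u, hu⟩ := hU.exists_generator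
    exact ⟨u, by rw [orderOf_coe, orderOf_eq_card_of_forall_mem_zpowers hu, hc]⟩

/-- A cyclic subgroup of odd order with a fixed point free element of order four in its normaliser. -/
theorem exists_frobenius_four (hm : 1 ≤ m) (hF : Fintype.card F = 2 ^ (2 * m + 1)) :
    ∃ (K : Subgroup (Cfsg.Sz F m)) (y : Cfsg.Sz F m), Odd (Nat.card K) ∧ K ≠ ⊥ ∧ orderOf y = 4 ∧
      (∀ i : ℕ, ∀ k ∈ K, (y ^ i)⁻¹ * k * y ^ i ∈ K) ∧
      ∀ i : ℕ, 0 < i → i < 4 → ∀ k ∈ K, (y ^ i)⁻¹ * k * y ^ i = k → k = 1 := by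
  classical
  haveI : Finite (Cfsg.Sz F m) := Subtype.finite
  haveI : Fact (Nat.Prime 2) := ⟨Nat.prime_two⟩
  obtain ⟨U, hU, hc, hcent, hN⟩ := Cfsg.Agent.S0333.result hm hF (2 ^ (2 * m + 1) + 2 ^ (m + 1) + 1) (by simp)
  have hodd : Odd (Nat.card U) := by
    rw [hc, Nat.odd_iff]
    have : 2 ∣ 2 ^ (2 * m + 1) := dvd_pow_self 2 (by omega)
    have : 2 ∣ 2 ^ (m + 1) := dvd_pow_self 2 (by omega)
    omega
  have hU1 : U ≠ ⊥ := fun e => by
    rw [e, Subgroup.card_bot] at hc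
    have := Nat.one_le_two_pow (n := 2 * m + 1)
    linarith [Nat.zero_le (2 ^ (m + 1))]
  set M := normalizer (U : Set (Cfsg.Sz F m)) with hM
  obtain ⟨S, hS⟩ := (⟨_, rfl⟩ : ∃ S, S = (default : Sylow 2 M))
  have hS4 : Nat.card S = 4 := by
    rw [S.card_eq_multiplicity, hN, Nat.factorization_mul (by norm_num) (by omega), Finsupp.add_apply,
      show (4 : ℕ).factorization 2 = 2 by rw [show (4 : ℕ) = 2 ^ 2 from rfl, Nat.Prime.factorization_pow Nat.prime_two]; simp,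
      Nat.factorization_eq_zero_of_not_dvd (hc ▸ hodd.not_two_dvd_nat)]
    rfl
  -- two-elements outside act freely
  have hfree : ∀ s : Cfsg.Sz F m, s ≠ 1 → (∃ j, s ^ 2 ^ j = 1) → ∀ u ∈ U, s⁻¹ * u * s = u → u = 1 := by
    intro s hs ⟨j, hj⟩ u hu he
    by_contra hu1
    have hsu : s ∈ centralizer ({u} : Set (Cfsg.Sz F m)) := mem_centralizer_singleton_iff.2 (by
      rw [mul_assoc, inv_mul_eq_iff_eq_mul] at he
      exact he.symm)
    rw [hcent u hu hu1] at hsu
    have h1 := Nat.dvd_gcd (orderOf_dvd_of_pow_eq_one hj) (Subgroup.orderOf_dvd_natCard U hsu)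
    rw [((Nat.coprime_two_left.2 hodd).pow_left j).gcd_eq_one, Nat.dvd_one, orderOf_eq_one_iff] at h1
    exact hs h1
  obtain ⟨y, hyS, hy2⟩ : ∃ y ∈ (S : Subgroup M), y * y ≠ 1 := by
    by_contra hno
    push Not at hno
    obtain ⟨a, ha, ha1⟩ := (S : Subgroup M).bot_or_exists_ne_one.resolve_left fun e => by
      rw [e, Subgroup.card_bot] at hS4; omega
    obtain ⟨b, hb, hba⟩ : ∃ b ∈ (S : Subgroup M), b ∉ zpowers a := by
      by_contra hb
      push Not at hb
      have hle := card_le_of_le (hb : (S : Subgroup M) ≤ zpowers a)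
      rw [Nat.card_zpowers, CfsgLib.Signalizer.orderOf_eq_two_of ha1 (hno a ha), hS4] at hle
      omega
    have hb1 : b ≠ 1 := fun e => hba (by rw [e]; exact one_mem _)
    have hab1 : a * b ≠ 1 := fun e => hba (by rw [eq_inv_of_mul_eq_one_right e]; exact inv_mem (mem_zpowers a))
    have hinv : ∀ s : M, s ≠ 1 → s * s = 1 → ∀ u ∈ U, (s : Cfsg.Sz F m) * u * (s : Cfsg.Sz F m)⁻¹ = u⁻¹ := by
      intro s hs1 hs2
      have hso : orderOf (s : Cfsg.Sz F m) = 2 := by
        rw [orderOf_coe]; exact CfsgLib.Signalizer.orderOf_eq_two_of hs1 hs2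
      refine CfsgLib.CIT.inverts_of_fpf hso (fun n hn => ((mem_normalizer_iff.1 s.2) n).1 hn) fun n hn e => ?_
      refine hfree (s : Cfsg.Sz F m) (fun e1 => hs1 (Subtype.ext e1))
        ⟨1, by rw [pow_one, ← hso, pow_orderOf_eq_one]⟩ n hn ?_
      rw [mul_assoc, inv_mul_eq_iff_eq_mul]
      exact (mul_inv_eq_iff_eq_mul.1 e).symm
    obtain ⟨u, hu, hu1⟩ := U.bot_or_exists_ne_one.resolve_left hU1
    have h1 : ((a * b : M) : Cfsg.Sz F m) * u * ((a * b : M) : Cfsg.Sz F m)⁻¹ = u := by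
      rw [Subgroup.coe_mul]
      calc (a : Cfsg.Sz F m) * b * u * ((a : Cfsg.Sz F m) * b)⁻¹
          = a * ((b : Cfsg.Sz F m) * u * (b : Cfsg.Sz F m)⁻¹) * (a : Cfsg.Sz F m)⁻¹ := by group
        _ = u := by rw [hinv b hb1 (hno b hb) u hu, hinv a ha1 (hno a ha) _ (inv_mem hu), inv_inv]
    refine hu1 (hfree _ (fun e1 => hab1 (Subtype.ext e1)) ⟨1, by
      rw [pow_one, pow_two, ← Subgroup.coe_mul, hno _ (mul_mem ha hb), Subgroup.coe_one]⟩ u hu ?_)
    rw [mul_assoc, inv_mul_eq_iff_eq_mul]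
    exact (mul_inv_eq_iff_eq_mul.1 h1).symm
  have hyo : orderOf (y : Cfsg.Sz F m) = 4 := by
    rw [orderOf_coe]
    have h4 : y ^ 4 = 1 := by
      have h := pow_card_eq_one' (x := (⟨y, hyS⟩ : (S : Subgroup M)))
      rw [show Nat.card (S : Subgroup M) = 4 from hS4] at h
      exact congrArg Subtype.val h
    exact orderOf_eq_prime_pow (p := 2) (n := 1) (by rwa [pow_one, pow_two]) h4
  refine ⟨U, y, hodd, hU1, hyo, fun i k hk => ?_, fun i hi hi4 k hk => ?_⟩
  · have h1 := ((mem_normalizer_iff.1 (inv_mem (pow_mem y.2 i))) k).1 hk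
    rwa [inv_inv] at h1
  · refine hfree _ (fun e => ?_) ⟨2, ?_⟩ k hk
    · have := Nat.le_of_dvd hi (hyo ▸ orderOf_dvd_of_pow_eq_one e)
      omega
    · rw [← pow_mul, mul_comm, pow_mul, show (2 : ℕ) ^ 2 = orderOf (y : Cfsg.Sz F m) from hyo.symm,
        pow_orderOf_eq_one, one_pow]

end CfsgLib.ThreeOrders
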