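import Cfsg.Agent.Lib.CIT.CoreFree
import Cfsg.Agent.Lib.Recog.ThreePrimes
import Cfsg.Agent.S0205
import Cfsg.Agent.S0144

/-!
# No prime divides three pairwise distinct element orders (S4371): first consequences

* `Three.length_le`: the order of an element is the product of at most two primes
* `Three.cit_or_exponent_two`: either the Sylow 2-subgroups have exponent two, or all even orders are 2 and 4
-/

set_option autoImplicit false
set_option linter.style.haveILetI false

namespace CfsgLib.ThreeOrders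

open Subgroup

universe u

/-- No prime divides three pairwise distinct element orders. -/
def Three (G : Type u) [Group G] : Prop :=
  ∀ p : ℕ, p.Prime → ∀ a b c : G, orderOf a ≠ orderOf b → orderOf b ≠ orderOf c → orderOf a ≠ orderOf c →
    ¬ (p ∣ orderOf a ∧ p ∣ orderOf b ∧ p ∣ orderOf c)

variable {G : Type u} [Group G] [Finite G]

theorem exists_orderOf_of_dvd (g : G) {d : ℕ} (hd : d ∣ orderOf g) : ∃ x : G, orderOf x = d :=
  ⟨g ^ (orderOf g / d), orderOf_pow_orderOf_div (orderOf_pos g).ne' hd⟩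

theorem Three.of_map {H : Type*} [Group H] (h : Three G) (f : G →* H) (hf : Function.Surjective f) :
    Three H := by
  intro p hp a b c h1 h2 h3 ⟨da, db, dc⟩
  obtain ⟨a', rfl⟩ := hf a
  obtain ⟨b', rfl⟩ := hf b
  obtain ⟨c', rfl⟩ := hf c
  obtain ⟨x, hx⟩ := CfsgLib.Recog.ThreePrimes.exists_orderOf_of_map f a' rfl
  obtain ⟨y, hy⟩ := CfsgLib.Recog.ThreePrimes.exists_orderOf_of_map f b' rfl
  obtain ⟨z, hz⟩ := CfsgLib.Recog.ThreePrimes.exists_orderOf_of_map f c' rfl
  rw [← hx] at h1 h3 da
  rw [← hy] at h1 h2 db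
  rw [← hz] at h2 h3 dc
  exact h p hp x y z h1 h2 h3 ⟨da, db, dc⟩

/-- Two multiples of `p` are all there is. -/
theorem Three.eq_or_eq (h : Three G) {p : ℕ} (hp : p.Prime) {a b : G} (hab : orderOf a ≠ orderOf b)
    (ha : p ∣ orderOf a) (hb : p ∣ orderOf b) {c : G} (hc : p ∣ orderOf c) :
    orderOf c = orderOf a ∨ orderOf c = orderOf b := by
  by_contra hno
  push Not at hno
  exact h p hp a b c hab (Ne.symm hno.2) (Ne.symm hno.1) ⟨ha, hb, hc⟩

/-- An element order is the product of at most two primes. -/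
theorem Three.length_le (h : Three G) (g : G) : (orderOf g).primeFactorsList.length ≤ 2 := by
  by_contra hlen
  have hn0 := (orderOf_pos g).ne'
  have hprod := Nat.prod_primeFactorsList hn0
  have hpr : ∀ p ∈ (orderOf g).primeFactorsList, p.Prime := fun p => Nat.prime_of_mem_primeFactorsList
  match he : (orderOf g).primeFactorsList with
  | [] => rw [he] at hlen; simp at hlen
  | [a] => rw [he] at hlen; simp at hlen
  | [a, b] => rw [he] at hlen; simp at hlen
  | a :: b :: c :: l =>
    rw [he] at hprod hpr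
    have ha := hpr a (by simp)
    have hb := hpr b (by simp)
    have hc := hpr c (by simp)
    simp only [List.prod_cons] at hprod
    obtain ⟨x, hx⟩ := exists_orderOf_of_dvd g (hprod ▸ dvd_mul_right a _)
    obtain ⟨y, hy⟩ := exists_orderOf_of_dvd g
      (hprod ▸ ((mul_dvd_mul_left a (dvd_mul_right b _))))
    have hab : a < a * b := lt_mul_of_one_lt_right ha.pos hb.one_lt
    have hl : 1 ≤ l.prod := List.one_le_prod fun p hp => (hpr p (by simp [hp])).one_lt.le
    have habc : a * b < a * (b * (c * l.prod)) := by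
      refine Nat.mul_lt_mul_of_pos_left (lt_mul_of_one_lt_right hb.pos ?_) ha.pos
      exact hc.one_lt.trans_le (Nat.le_mul_of_pos_right _ hl)
    exact h a ha x y g (by omega) (by omega) (by omega)
      ⟨hx ▸ dvd_rfl, hy ▸ dvd_mul_right a b, hprod ▸ dvd_mul_right a _⟩

theorem Three.length_le_of_dvd (h : Three G) (g : G) {d : ℕ} (hd : d ∣ orderOf g) :
    d.primeFactorsList.length ≤ 2 := by
  obtain ⟨x, rfl⟩ := exists_orderOf_of_dvd g hd
  exact h.length_le x

/-- The dichotomy at the prime two. -/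
theorem Three.cit_or_exponent_two (h : Three G) :
    (CfsgLib.CIT.CIT G ∧ ∀ x : G, 2 ∣ orderOf x → orderOf x = 2 ∨ orderOf x = 4) ∨
      ∀ x : G, ¬ 4 ∣ orderOf x := by
  by_cases h4 : ∀ x : G, ¬ 4 ∣ orderOf x
  · exact Or.inr h4
  push Not at h4
  obtain ⟨g, hg⟩ := h4
  obtain ⟨a, ha⟩ := exists_orderOf_of_dvd g ((show 2 ∣ 4 by norm_num).trans hg)
  obtain ⟨b, hb⟩ := exists_orderOf_of_dvd g hg
  have key : ∀ x : G, 2 ∣ orderOf x → orderOf x = 2 ∨ orderOf x = 4 := fun x hx => by
    have := h.eq_or_eq Nat.prime_two (a := a) (b := b) (by omega) (by omega) (by omega) hx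
    omega
  refine Or.inl ⟨CfsgLib.CIT.cit_iff_no_two_prime.2 fun r hr hr2 ⟨x, hx⟩ => ?_, key⟩
  have := hr.two_le
  rcases key x (hx ▸ dvd_mul_right 2 r) with e | e <;> omega

theorem two_dvd_card (hns : ¬ Group.IsSolvable G) : 2 ∣ Nat.card G := by
  by_contra h
  exact hns (Cfsg.Agent.S0205.result (Nat.odd_iff.2 (by omega)))

end CfsgLib.ThreeOrders
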