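import Cfsg.Agent.Lib.ThreeOrders.Outer

/-!
# Some elements of `PSL(2, q)` and their behaviour under field automorphisms (S4371)
-/

set_option autoImplicit false

namespace CfsgLib.ThreeOrders

open Matrix CfsgLib.Known.AutPSL

variable {F : Type*} [Field F]

/-- `[[1, a], [0, 1]]`. -/
def uElt (a : F) : SL 2 F := ⟨!![1, a; 0, 1], by simp [det_fin_two_of]⟩

/-- `[[0, -1], [1, 0]]`. -/
def twoElt (F : Type*) [Field F] : SL 2 F := ⟨!![0, -1; 1, 0], by simp [det_fin_two_of]⟩

/-- `[[0, -1], [1, -1]]`. -/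
def threeElt (F : Type*) [Field F] : SL 2 F := ⟨!![0, -1; 1, -1], by simp [det_fin_two_of]⟩

theorem uElt_mul (a b : F) : uElt a * uElt b = uElt (a + b) := by
  refine Subtype.ext ?_
  rw [Matrix.SpecialLinearGroup.coe_mul]
  ext i j
  fin_cases i <;> fin_cases j <;> simp [uElt, add_comm]

theorem uElt_zero : uElt (0 : F) = 1 :=
  Subtype.ext (by ext i j; fin_cases i <;> fin_cases j <;> simp [uElt])

theorem uElt_pow (a : F) : ∀ k : ℕ, uElt a ^ k = uElt ((k : F) * a)
  | 0 => by simp [uElt_zero]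
  | k + 1 => by rw [pow_succ, uElt_pow a k, uElt_mul]; push_cast; ring_nf

theorem proj_ne_one {M : SL 2 F} (h : (M : Matrix (Fin 2) (Fin 2) F) 1 0 ≠ 0 ∨
    (M : Matrix (Fin 2) (Fin 2) F) 0 1 ≠ 0) : proj 2 F M ≠ 1 := by
  intro he
  rw [← map_one (proj 2 F), proj_eq_iff] at he
  obtain ⟨c, hc0, hc⟩ := he
  have h10 := congrFun₂ hc 1 0
  have h01 := congrFun₂ hc 0 1
  simp [hc0] at h10 h01
  rcases h with h | h <;> contradiction

theorem orderOf_twoElt : orderOf (proj 2 F (twoElt F)) = 2 := by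
  refine orderOf_eq_prime ?_ (proj_ne_one (Or.inl (by simp [twoElt])))
  rw [← map_pow, ← map_one (proj 2 F), proj_eq_iff]
  refine ⟨-1, neg_ne_zero.2 one_ne_zero, ?_⟩
  rw [Matrix.SpecialLinearGroup.coe_pow, pow_two]
  ext i j
  fin_cases i <;> fin_cases j <;> simp [twoElt]

theorem orderOf_threeElt : orderOf (proj 2 F (threeElt F)) = 3 := by
  refine orderOf_eq_prime ?_ (proj_ne_one (Or.inl (by simp [threeElt])))
  rw [← map_pow, ← map_one (proj 2 F)]
  congr 1
  refine Subtype.ext ?_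
  rw [Matrix.SpecialLinearGroup.coe_pow, pow_succ, pow_two]
  ext i j
  fin_cases i <;> fin_cases j <;> simp [threeElt]

theorem orderOf_uElt {p : ℕ} [Fact p.Prime] [CharP F p] {a : F} (ha : a ≠ 0) :
    orderOf (proj 2 F (uElt a)) = p := by
  refine orderOf_eq_prime ?_ (proj_ne_one (Or.inr (by simpa [uElt] using ha)))
  rw [← map_pow, uElt_pow, CharP.cast_eq_zero, zero_mul, uElt_zero, map_one]

theorem slConjHom_uElt (σ : F ≃+* F) (a : F) : slConjHom 1 σ (uElt a) = uElt (σ a) :=
  Subtype.ext (by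
    rw [coe_slConjHom, inv_one, Units.val_one, one_mul, mul_one]
    ext i j; fin_cases i <;> fin_cases j <;> simp [uElt])

theorem slConjHom_twoElt (σ : F ≃+* F) : slConjHom 1 σ (twoElt F) = twoElt F :=
  Subtype.ext (by
    rw [coe_slConjHom, inv_one, Units.val_one, one_mul, mul_one]
    ext i j; fin_cases i <;> fin_cases j <;> simp [twoElt])

theorem slConjHom_threeElt (σ : F ≃+* F) : slConjHom 1 σ (threeElt F) = threeElt F :=
  Subtype.ext (by
    rw [coe_slConjHom, inv_one, Units.val_one, one_mul, mul_one]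
    ext i j; fin_cases i <;> fin_cases j <;> simp [threeElt])

section Act

variable [Fintype F] {G : Type*} [Group G] [Finite G] {N : Subgroup G} [N.Normal] (e : N ≃* PSL 2 F)

/-- The element of `N` of a matrix. -/
def lift2 (M : SL 2 F) : G := ((e.symm (proj 2 F M) : N) : G)

theorem orderOf_lift2 (M : SL 2 F) : orderOf (lift2 e M) = orderOf (proj 2 F M) := by
  rw [lift2, Subgroup.orderOf_coe, MulEquiv.orderOf_eq]

theorem lift2_mul (M M' : SL 2 F) : lift2 e (M * M') = lift2 e M * lift2 e M' := by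
  rw [lift2, lift2, lift2, map_mul, map_mul, Subgroup.coe_mul]

theorem conj_lift2 {x : G} {σ : F ≃+* F} (hx : act N e x = fieldHom 2 F σ) (M : SL 2 F) :
    x * lift2 e M * x⁻¹ = lift2 e (slConjHom 1 σ M) := by
  have h := act_apply N e x (e.symm (proj 2 F M))
  rw [e.apply_symm_apply, hx, fieldHom_apply, semilin_proj] at h
  rw [lift2, lift2, h, e.symm_apply_apply, MulAut.conjNormal_apply]

theorem commute_lift2 {x : G} {σ : F ≃+* F} (hx : act N e x = fieldHom 2 F σ) {M : SL 2 F}
    (hM : slConjHom 1 σ M = M) : Commute x (lift2 e M) := by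
  have h := conj_lift2 e hx M
  rw [hM] at h
  exact mul_inv_eq_iff_eq_mul.1 h

end Act

end CfsgLib.ThreeOrders
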