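import Cfsg.Agent.Lib.ThreeOrders.Basic
import Cfsg.Agent.Lib.ThreeOrders.Elements
import Cfsg.Agent.Lib.Recog.PSLTwoOrders

/-!
# No proper almost simple extension of `PSL(2, q)` without three orders (S4371)

`top_of_cit`: even orders 2 and 4 only, `q = 2ⁿ, 7, 9`.
`top_of_exponent`: no order divisible by 4, `q = 2ⁿ` or `q ≡ 3, 5 (mod 8)`.
-/

set_option autoImplicit false
set_option linter.style.haveILetI false

namespace CfsgLib.ThreeOrders

open Subgroup Matrix CfsgLib.Known.AutPSL

universe u

variable {F : Type} [Field F] [Fintype F] {G : Type u} [Group G] [Finite G] {N : Subgroup G} [N.Normal]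
  (e : N ≃* PSL 2 F) (hC : centralizer (N : Set G) = ⊥)
include e hC

theorem orderOf_of_act {x : G} {α : MulAut (PSL 2 F)} (hx : act N e x = α) : orderOf x = orderOf α :=
  hx ▸ (orderOf_injective _ (act_injective e hC) x).symm

omit e hC in
theorem two_mem_sqUnits_iff (h2 : (2 : F) ≠ 0) :
    Units.mk0 (2 : F) h2 ∈ sqUnits F ↔ IsSquare (2 : F) := by
  constructor
  · rintro ⟨c, hc⟩
    exact ⟨c, by simpa [pow_two, Units.ext_iff] using hc.symm⟩
  · rintro ⟨c, hc⟩
    have hc0 : c ≠ 0 := fun e => h2 (by rw [hc, e, mul_zero])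
    exact ⟨Units.mk0 c hc0, Units.ext (by simp [pow_two, hc])⟩

theorem top_of_cit (hC2 : CfsgLib.CIT.CIT G) (h24 : ∀ x : G, 2 ∣ orderOf x → orderOf x = 2 ∨ orderOf x = 4)
    (hq : (∃ n : ℕ, Fintype.card F = 2 ^ n) ∨ Fintype.card F = 7 ∨ Fintype.card F = 9) : N = ⊤ := by
  classical
  have hno := CfsgLib.CIT.cit_iff_no_two_prime.1 hC2
  by_contra hne
  rcases outer_cases e hC hne with ⟨x, σ, r, hr, -, hxr, hx⟩ | ⟨σ, h, hσ, hd, hmem⟩
  · rcases eq_or_ne r 2 with rfl | hr2
    · refine hno 3 Nat.prime_three (by norm_num) ⟨x * lift2 e (threeElt F), ?_⟩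
      rw [(commute_lift2 e hx (slConjHom_threeElt σ)).orderOf_mul_eq_mul_orderOf_of_coprime
        (by rw [hxr, orderOf_lift2, orderOf_threeElt]; norm_num), hxr, orderOf_lift2, orderOf_threeElt]
    · refine hno r hr hr2 ⟨x * lift2 e (twoElt F), ?_⟩
      rw [(commute_lift2 e hx (slConjHom_twoElt σ)).orderOf_mul_eq_mul_orderOf_of_coprime
        (by rw [hxr, orderOf_lift2, orderOf_twoElt]; exact (Nat.coprime_primes hr Nat.prime_two).2 hr2),
        hxr, orderOf_lift2, orderOf_twoElt, mul_comm]
  obtain ⟨p, hp⟩ := CharP.exists F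
  haveI := hp
  haveI : Fact p.Prime := ⟨CharP.char_is_prime F p⟩
  have hq79 : Fintype.card F = 7 ∨ Fintype.card F = 9 := by
    refine hq.resolve_left fun ⟨n, hn⟩ => ?_
    have hn0 : n ≠ 0 := fun e => by
      have := Fintype.one_lt_card (α := F); rw [hn, e] at this; omega
    have h2 : ringChar F = 2 := by
      by_contra hne2
      have := FiniteField.odd_card_of_char_ne_two hne2
      have : 2 ∣ 2 ^ n := dvd_pow_self 2 hn0
      omega
    obtain ⟨c, hc⟩ := FiniteField.isSquare_of_char_two h2 ((GeneralLinearGroup.det h : Fˣ) : F)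
    have hc0 : c ≠ 0 := fun e => (GeneralLinearGroup.det h).ne_zero (by rw [hc, e, mul_zero])
    exact hd ⟨Units.mk0 c hc0, Units.ext (by simp [pow_two, hc])⟩
  -- a generator of the units
  obtain ⟨ω, hω⟩ := IsCyclic.exists_generator (α := Fˣ)
  have hωo : orderOf ω = Fintype.card F - 1 := by
    rw [orderOf_eq_card_of_forall_mem_zpowers hω, CfsgLib.Classical.card_units_field]
  have hωns : ω ∉ sqUnits F := fun hm => hd
    ((zpowers_le.2 hm) (hω (GeneralLinearGroup.det h)))
  have hωpow : ∀ k : ℕ, (ω : F) ^ k = 1 → Fintype.card F - 1 ∣ k := fun k hk =>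
    hωo ▸ orderOf_dvd_of_pow_eq_one (Units.ext (by simpa using hk))
  rcases hσ with rfl | hσ2
  · -- the diagonal element of order `q - 1`
    let D : GL (Fin 2) F := GeneralLinearGroup.mk'' !![(ω : F), 0; 0, 1] (by simp [det_fin_two_of])
    have hdD : GeneralLinearGroup.det D = ω := Units.ext (by simp [D, det_fin_two_of])
    obtain ⟨x, hx⟩ := semilin_mem_range e hmem (h' := D)
      (by rw [map_mul, map_inv, hdD]; exact sqUnits_mul hωns fun h' => hd (inv_mem_iff.1 h'))
    have hdvd : Fintype.card F - 1 ∣ orderOf x := by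
      refine hωpow _ ?_
      have h1 : innDiag 2 F (D ^ orderOf x) = 1 := by
        rw [map_pow, innDiag_apply, show RingEquiv.refl F = (1 : F ≃+* F) from rfl, ← hx, ← map_pow,
          pow_orderOf_eq_one, map_one]
      obtain ⟨c, hc⟩ := (innDiag_eq_one_iff le_rfl _).1 h1
      have hk : ∀ k : ℕ, ((D ^ k : GL (Fin 2) F) : Matrix (Fin 2) (Fin 2) F) = !![(ω : F) ^ k, 0; 0, 1] := by
        intro k
        induction k with
        | zero => ext i j; fin_cases i <;> fin_cases j <;> simp
        | succ k ih =>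
          rw [pow_succ, Units.val_mul, ih]
          ext i j
          fin_cases i <;> fin_cases j <;> simp [D, pow_succ]
      rw [hk] at hc
      have h00 := congrFun₂ hc 0 0
      have h11 := congrFun₂ hc 1 1
      simp at h00 h11
      rw [h00, h11]
    have h2 : 2 ∣ orderOf x := (show 2 ∣ Fintype.card F - 1 by omega).trans hdvd
    rcases h24 x h2 with e' | e' <;> rw [e'] at hdvd <;> rcases hq79 with e'' | e'' <;> rw [e''] at hdvd <;>
      have := Nat.le_of_dvd (by norm_num) hdvd <;> omega
  -- the element of order eight over the field with nine elements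
  have hF : Fintype.card F = 9 := by
    refine hq79.resolve_left fun h7 => ?_
    haveI : Fact (Nat.Prime 7) := ⟨by norm_num⟩
    haveI : Finite (F ≃+* F) := Finite.of_injective (fun τ => (τ : F → F)) DFunLike.coe_injective
    have h21 := orderOf_dvd_natCard σ
    rw [hσ2, (card_ringAut (p := 7) (f := 1) (F := F) (by rw [h7]; rfl) le_rfl).1] at h21
    norm_num at h21
  haveI : Fact (Nat.Prime 3) := ⟨Nat.prime_three⟩
  haveI : CharP F 3 := charP_of_card (p := 3) (f := 2) (by rw [hF]; rfl) (by norm_num)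
  have hω8 : ∀ k : ℕ, (ω : F) ^ k = 1 → 8 ∣ k := fun k hk => by simpa [hF] using hωpow k hk
  have hσω : σ (ω : F) = (ω : F) ^ 3 := by
    haveI : Finite (F ≃+* F) := Finite.of_injective (fun τ => (τ : F → F)) DFunLike.coe_injective
    have hc := (card_ringAut (p := 3) (f := 2) (F := F) (by rw [hF]; rfl) (by norm_num)).1
    have hfr : frobeniusEquiv F 3 ≠ 1 := fun e => by
      have h' : (ω : F) ^ 3 = ω := by simpa [frobenius_def] using RingEquiv.congr_fun e (ω : F)
      have := hω8 2 (mul_left_cancel₀ ω.ne_zero (by rw [← pow_succ', h', mul_one]))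
      omega
    have hσ1 : σ ≠ 1 := fun e => by rw [e, orderOf_one] at hσ2; norm_num at hσ2
    obtain ⟨y, -, huniq⟩ := (Nat.card_eq_two_iff' 1).1 hc
    have : σ = frobeniusEquiv F 3 := (huniq σ hσ1).trans (huniq _ hfr).symm
    rw [this, frobeniusEquiv_apply, frobenius_def]
  let H : GL (Fin 2) F := GeneralLinearGroup.mk'' !![0, -(ω : F); 1, 0] (by simp [det_fin_two_of])
  have hdH : GeneralLinearGroup.det H = ω := Units.ext (by simp [H, det_fin_two_of])
  obtain ⟨x, hx⟩ := semilin_mem_range e hmem (h' := H)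
    (by rw [map_mul, map_inv, hdH]; exact sqUnits_mul hωns fun h' => hd (inv_mem_iff.1 h'))
  have hσσ : σ.trans σ = RingEquiv.refl F := by
    have := pow_orderOf_eq_one σ
    rwa [hσ2, pow_two] at this
  have hsq : act N e (x ^ 2) = innDiag 2 F (H * glMap σ H) := by
    rw [map_pow, hx, pow_two, semilin_mul, hσσ, innDiag_apply]
  have hk : ∀ k : ℕ, (((H * glMap σ H) ^ k : GL (Fin 2) F) : Matrix (Fin 2) (Fin 2) F) =
      !![(-(ω : F)) ^ k, 0; 0, (-(ω : F) ^ 3) ^ k] := by
    intro k
    induction k with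
    | zero => ext i j; fin_cases i <;> fin_cases j <;> simp
    | succ k ih =>
      rw [pow_succ, Units.val_mul, ih, Units.val_mul, coe_glMap]
      ext i j
      fin_cases i <;> fin_cases j <;> simp [H, pow_succ, hσω, Matrix.mul_apply, Matrix.vecMul, dotProduct, Fin.sum_univ_two]
  have hscal : ∀ k : ℕ, act N e ((x ^ 2) ^ k) = 1 ↔ (-(ω : F)) ^ k = (-(ω : F) ^ 3) ^ k := by
    intro k
    rw [map_pow, hsq, ← map_pow, innDiag_eq_one_iff le_rfl, hk]
    constructor
    · rintro ⟨c, hc⟩
      have h00 := congrFun₂ hc 0 0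
      have h11 := congrFun₂ hc 1 1
      simp at h00 h11
      rw [h00, h11]
    · intro hkk
      exact ⟨(-(ω : F)) ^ k, by rw [← hkk]; ext i j; fin_cases i <;> fin_cases j <;> simp⟩
  have hx8 : orderOf x = 2 ^ (2 + 1) := by
    haveI : Fact (Nat.Prime 2) := ⟨Nat.prime_two⟩
    have hω8' : (ω : F) ^ 8 = 1 := by
      have := congrArg Units.val (pow_orderOf_eq_one ω)
      rw [hωo, hF] at this
      simpa using this
    refine orderOf_eq_prime_pow (fun h4 => ?_) ?_
    · have h' := (hscal 2).1 (by rw [← pow_mul, show 2 * 2 = 2 ^ 2 from rfl, h4, map_one])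
      have : (ω : F) ^ 4 = 1 := mul_left_cancel₀ (pow_ne_zero 2 ω.ne_zero) (by linear_combination -h')
      have := hω8 4 this
      omega
    · refine act_injective e hC ?_
      rw [map_one, show x ^ 2 ^ (2 + 1) = (x ^ 2) ^ 4 by rw [← pow_mul]; rfl]
      exact (hscal 4).2 (by linear_combination -(ω : F) ^ 4 * hω8')
  rcases h24 x (by rw [hx8]; norm_num) with e' | e' <;> rw [hx8] at e' <;> norm_num at e'

theorem top_of_exponent (h : Three G) (h4 : ∀ x : G, ¬ 4 ∣ orderOf x) (h4q : 4 ≤ Fintype.card F)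
    (hq : (∃ n : ℕ, Fintype.card F = 2 ^ n) ∨ Fintype.card F % 8 = 3 ∨ Fintype.card F % 8 = 5) : N = ⊤ := by
  classical
  by_contra hne
  obtain ⟨p, hp⟩ := CharP.exists F
  haveI := hp
  haveI : Fact p.Prime := ⟨CharP.char_is_prime F p⟩
  obtain ⟨⟨f, hf⟩, -, hF⟩ := FiniteField.card F p
  simp only [PNat.mk_coe] at hF
  -- no involutory field automorphism in odd characteristic
  have hodd2 : ∀ σ : F ≃+* F, orderOf σ = 2 → ∃ n : ℕ, Fintype.card F = 2 ^ n := by
    intro σ hσ
    refine hq.resolve_right fun h35 => ?_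
    obtain ⟨⟨k, rfl⟩, -⟩ := exists_fixed_field hF hf σ hσ
    rw [pow_mul', pow_two] at hF
    rw [hF, Nat.mul_mod] at h35
    have := Nat.mod_lt (p ^ k) (show 8 > 0 by norm_num)
    generalize p ^ k % 8 = w at this h35
    interval_cases w <;> omega
  have hsq2 : ∀ {n : ℕ}, Fintype.card F = 2 ^ n → p = 2 := fun {n} hn => by
    have hdvd : p ∣ 2 ^ n := hn ▸ hF ▸ dvd_pow_self p hf.ne'
    exact (Nat.prime_dvd_prime_iff_eq Fact.out Nat.prime_two).1 ((Fact.out : p.Prime).dvd_of_dvd_pow hdvd)
  rcases outer_cases e hC hne with ⟨x, σ, r, hr, hσr, hxr, hx⟩ | ⟨σ, h', hσ, hd, hmem⟩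
  · rcases eq_or_ne r 2 with rfl | hr2
    · -- an element of order four in characteristic two
      obtain ⟨n, hn⟩ := hodd2 σ hσr
      obtain rfl := hsq2 hn
      obtain ⟨a, ha⟩ : ∃ a, σ a ≠ a := by
        by_contra hno
        push Not at hno
        rw [show σ = 1 from RingEquiv.ext hno, orderOf_one] at hσr
        norm_num at hσr
      have hsum : a + σ a ≠ 0 := fun e0 => ha (by
        rw [← CharTwo.add_eq_zero.1 e0])
      have hx2 : x * x = 1 := by
        have := pow_orderOf_eq_one x
        rwa [hxr, pow_two] at this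
      have hux : (lift2 e (uElt a) * x) ^ 2 = lift2 e (uElt (a + σ a)) := by
        rw [pow_two, ← uElt_mul, lift2_mul, ← slConjHom_uElt σ a, ← conj_lift2 e hx,
          inv_eq_of_mul_eq_one_left hx2]
        group
      have ho : orderOf (lift2 e (uElt (a + σ a))) = 2 := by
        rw [orderOf_lift2, orderOf_uElt (p := 2) hsum]
      refine h4 (lift2 e (uElt a) * x) ?_
      rw [orderOf_eq_prime_pow (p := 2) (n := 1) (by
        rw [pow_one, hux]
        intro e1
        rw [e1, orderOf_one] at ho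
        norm_num at ho) (by
        rw [pow_succ, pow_one, pow_mul, hux, ← ho, pow_orderOf_eq_one])]
      norm_num
    -- odd order
    have hord : ∀ {M : SL 2 F} {o : ℕ}, slConjHom 1 σ M = M → orderOf (proj 2 F M) = o → r.Coprime o →
        orderOf (x * lift2 e M) = r * o := by
      intro M o hM ho hcop
      rw [(commute_lift2 e hx hM).orderOf_mul_eq_mul_orderOf_of_coprime (by rw [hxr, orderOf_lift2, ho]; exact hcop),
        hxr, orderOf_lift2, ho]
    have h2r := hord (slConjHom_twoElt σ) orderOf_twoElt ((Nat.coprime_primes hr Nat.prime_two).2 hr2)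
    have hr3 : r = 3 := by
      by_contra hr3
      have h3r := hord (slConjHom_threeElt σ) orderOf_threeElt ((Nat.coprime_primes hr Nat.prime_three).2 hr3)
      have := hr.pos
      exact h r hr x (x * lift2 e (twoElt F)) (x * lift2 e (threeElt F)) (by rw [hxr, h2r]; omega)
        (by rw [h2r, h3r]; omega) (by rw [hxr, h3r]; omega)
        ⟨hxr ▸ dvd_rfl, h2r ▸ dvd_mul_right r 2, h3r ▸ dvd_mul_right r 3⟩
    subst hr3
    have h36 : ∀ y : G, 3 ∣ orderOf y → orderOf y = 3 ∨ orderOf y = 6 := fun y hy => by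
      have := h.eq_or_eq Nat.prime_three (a := x) (b := x * lift2 e (twoElt F)) (by rw [hxr, h2r]; norm_num)
        (hxr ▸ dvd_rfl) (h2r ▸ dvd_mul_right 3 2) hy
      rwa [hxr, h2r] at this
    have h9 : ∀ y : G, orderOf y ≠ 9 := fun y hy => by
      rcases h36 y (by rw [hy]; norm_num) with e' | e' <;> omega
    rcases eq_or_ne p 2 with rfl | hp2
    · -- a torus element of order nine
      obtain ⟨⟨k, rfl⟩, -⟩ := exists_fixed_field hF hf σ hσr
      rw [pow_mul] at hF
      have h9d : 9 ∣ Fintype.card F - 1 ∨ 9 ∣ Fintype.card F + 1 := by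
        rw [hF]
        rcases Nat.even_or_odd k with ⟨j, rfl⟩ | ⟨j, rfl⟩
        · left
          rw [← two_mul, pow_mul]
          have := Nat.pow_mod ((2 ^ 3) ^ 2) j 9
          have h1 : 1 ≤ ((2 ^ 3) ^ 2) ^ j := Nat.one_le_pow _ _ (by norm_num)
          norm_num at this h1 ⊢
          omega
        · right
          rw [pow_succ, pow_mul]
          have := Nat.mul_mod (((2 ^ 3) ^ 2) ^ j) (2 ^ 3) 9
          have h' := Nat.pow_mod ((2 ^ 3) ^ 2) j 9
          norm_num at this h' ⊢
          omega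
      have hgcd : Nat.gcd 2 (Fintype.card F - 1) = 1 := by
        have h1 : (Fintype.card F - 1) % 2 = 1 := by
          rw [hF, ← pow_mul]
          have : 2 ∣ 2 ^ (3 * k) := dvd_pow_self 2 (by omega)
          have := Nat.one_le_two_pow (n := 3 * k)
          omega
        rw [Nat.gcd_rec, h1]; rfl
      obtain ⟨y, hy⟩ : 9 ∈ Set.range (orderOf : PSL 2 F → ℕ) :=
        (CfsgLib.Recog.PSLTwoOrders.range_orderOf (F := F) 2 h4q).ge (by
          rw [hgcd, Nat.div_one, Nat.div_one]
          exact Or.inr h9d)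
      exact h9 (e.symm y : N) (by rw [Subgroup.orderOf_coe, MulEquiv.orderOf_eq, hy])
    rcases eq_or_ne p 3 with rfl | hp3
    · -- an element of order nine in the coset of the field automorphism
      haveI : CharP F 3 := hp
      have h30 : (3 : F) = 0 := by exact_mod_cast CharP.cast_eq_zero F 3
      obtain ⟨a, ha⟩ : ∃ a, a + σ a + σ (σ a) ≠ 0 := by
        by_contra hno
        push Not at hno
        have hfix : σ = 1 := RingEquiv.ext fun a => by
          have ha := hno a
          have haa := hno (a * a)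
          rw [map_mul, map_mul] at haa
          have hsq : (σ a - a) * (σ a - a) = 0 := by
            linear_combination -haa + (σ (σ a) - a - σ a) * ha + (a * a + σ a * σ a) * h30
          exact sub_eq_zero.1 (mul_self_eq_zero.1 hsq)
        rw [hfix, orderOf_one] at hσr
        norm_num at hσr
      have hx3 : x ^ 3 = 1 := by rw [← hxr, pow_orderOf_eq_one]
      have hux : (lift2 e (uElt a) * x) ^ 3 = lift2 e (uElt (a + σ a + σ (σ a))) := by
        rw [← uElt_mul, ← uElt_mul, lift2_mul, lift2_mul, ← slConjHom_uElt σ (σ a), ← conj_lift2 e hx,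
          ← slConjHom_uElt σ a, ← conj_lift2 e hx, pow_succ, pow_two]
        calc lift2 e (uElt a) * x * (lift2 e (uElt a) * x) * (lift2 e (uElt a) * x)
            = lift2 e (uElt a) * (x * lift2 e (uElt a) * x⁻¹) * (x * (x * lift2 e (uElt a) * x⁻¹) * x⁻¹) * x ^ 3 := by
              group
          _ = _ := by rw [hx3, mul_one]
      have ho : orderOf (lift2 e (uElt (a + σ a + σ (σ a)))) = 3 := by
        rw [orderOf_lift2, orderOf_uElt (p := 3) ha]
      refine h9 (lift2 e (uElt a) * x) ?_
      rw [orderOf_eq_prime_pow (p := 3) (n := 1) (by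
        rw [pow_one, hux]
        intro e1
        rw [e1, orderOf_one] at ho
        norm_num at ho) (by
        rw [pow_succ, pow_one, pow_mul, hux, ← ho, pow_orderOf_eq_one])]
      norm_num
    have hpp : p.Prime := Fact.out
    have h3p := hord (M := uElt 1) (by rw [slConjHom_uElt, map_one]) (orderOf_uElt (p := p) one_ne_zero)
      ((Nat.coprime_primes Nat.prime_three hpp).2 (Ne.symm hp3))
    rcases h36 _ (h3p ▸ dvd_mul_right 3 p) with e' | e' <;> rw [h3p] at e'
    · exact hpp.ne_one (by omega)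
    · omega
  -- the square class: 2 is not a square
  rcases hσ with rfl | hσ2
  swap
  · obtain ⟨n, hn⟩ := hodd2 σ hσ2
    obtain rfl := hsq2 hn
    obtain ⟨c, hc⟩ := FiniteField.isSquare_of_char_two (ringChar.eq F 2) ((GeneralLinearGroup.det h' : Fˣ) : F)
    have hc0 : c ≠ 0 := fun e => (GeneralLinearGroup.det h').ne_zero (by rw [hc, e, mul_zero])
    exact hd ⟨Units.mk0 c hc0, Units.ext (by simp [pow_two, hc])⟩
  rcases hq with ⟨n, hn⟩ | h35
  · obtain rfl := hsq2 hn
    obtain ⟨c, hc⟩ := FiniteField.isSquare_of_char_two (ringChar.eq F 2) ((GeneralLinearGroup.det h' : Fˣ) : F)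
    have hc0 : c ≠ 0 := fun e => (GeneralLinearGroup.det h').ne_zero (by rw [hc, e, mul_zero])
    exact hd ⟨Units.mk0 c hc0, Units.ext (by simp [pow_two, hc])⟩
  have hns2 : ¬ IsSquare (2 : F) := fun h2 => by
    have := FiniteField.isSquare_two_iff.1 h2
    omega
  have h20 : (2 : F) ≠ 0 := fun e => hns2 (e ▸ IsSquare.zero)
  let H : GL (Fin 2) F := GeneralLinearGroup.mk'' !![1, -1; 1, 1]
    (by simpa [det_fin_two_of, one_add_one_eq_two] using h20)
  have hdH : GeneralLinearGroup.det H = Units.mk0 2 h20 := Units.ext (by simp [H, det_fin_two_of]; norm_num)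
  obtain ⟨x, hx⟩ := semilin_mem_range e hmem (h' := H) (by
    rw [map_mul, map_inv, hdH]
    exact sqUnits_mul (fun h2 => hns2 ((two_mem_sqUnits_iff h20).1 h2)) fun h2 => hd (inv_mem_iff.1 h2))
  have hH2 : ((H ^ 2 : GL (Fin 2) F) : Matrix (Fin 2) (Fin 2) F) = !![0, -2; 2, 0] := by
    rw [pow_two, Units.val_mul]
    ext i j
    fin_cases i <;> fin_cases j <;> simp [H] <;> norm_num
  refine h4 x ?_
  have hxi : act N e x = innDiag 2 F H := hx
  rw [orderOf_of_act e hC hxi, orderOf_eq_prime_pow (p := 2) (n := 1)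
    (fun h1 => ?_) ((by
      rw [← map_pow, innDiag_eq_one_iff le_rfl, pow_succ, pow_mul, pow_one, pow_two, Units.val_mul, hH2]
      exact ⟨-4, by ext i j; fin_cases i <;> fin_cases j <;> simp <;> norm_num⟩) :
      innDiag 2 F H ^ 2 ^ (1 + 1) = 1)]
  · norm_num
  · rw [pow_one, ← map_pow, innDiag_eq_one_iff le_rfl, hH2] at h1
    obtain ⟨c, hc⟩ := h1
    have h10 := congrFun₂ hc 1 0
    simp at h10
    exact h20 h10

end CfsgLib.ThreeOrders
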