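import Cfsg.Agent.Lib.ThreeOrders.Basic
import Cfsg.Agent.Lib.Recog.PSLTwoOrders
import Cfsg.Agent.Lib.Recog.SimpleSixty
import Cfsg.Agent.Lib.Classical.SmallIso
import Cfsg.Agent.Lib.CIT.EPPO
import Cfsg.Agent.Lib.Known.AutPSL.Structure

/-!
# `PSL(2, q)` without three orders (S4371)
-/

set_option autoImplicit false
set_option linter.style.haveILetI false

namespace CfsgLib.ThreeOrders

universe u

variable {X : Type u} [Group X] [Finite X] {F : Type} [Field F] [Fintype F]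

theorem exists_orderOf_psl (e : X ≃* Matrix.ProjectiveSpecialLinearGroup (Fin 2) F) (h4 : 4 ≤ Fintype.card F)
    {n : ℕ} (hn : n ∣ (Fintype.card F - 1) / Nat.gcd 2 (Fintype.card F - 1) ∨
      n ∣ (Fintype.card F + 1) / Nat.gcd 2 (Fintype.card F - 1)) : ∃ x : X, orderOf x = n := by
  obtain ⟨p, hp⟩ := CharP.exists F
  haveI : Fact p.Prime := ⟨CharP.char_is_prime F p⟩
  obtain ⟨g, hg⟩ : n ∈ Set.range (orderOf : Matrix.ProjectiveSpecialLinearGroup (Fin 2) F → ℕ) :=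
    (CfsgLib.Recog.PSLTwoOrders.range_orderOf (F := F) p h4).ge (Or.inr hn)
  exact ⟨e.symm g, by rw [MulEquiv.orderOf_eq, hg]⟩

/-- Both torus orders are products of at most two primes. -/
theorem Three.psl_lengths (h : Three X) (e : X ≃* Matrix.ProjectiveSpecialLinearGroup (Fin 2) F)
    (h4 : 4 ≤ Fintype.card F) :
    ((Fintype.card F + 1) / Nat.gcd 2 (Fintype.card F - 1)).primeFactorsList.length ≤ 2 ∧
      ((Fintype.card F - 1) / Nat.gcd 2 (Fintype.card F - 1)).primeFactorsList.length ≤ 2 := by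
  refine ⟨?_, ?_⟩
  · obtain ⟨x, hx⟩ := exists_orderOf_psl e h4 (Or.inr dvd_rfl)
    exact hx ▸ h.length_le x
  · obtain ⟨x, hx⟩ := exists_orderOf_psl e h4 (Or.inl dvd_rfl)
    exact hx ▸ h.length_le x

/-- `PSL(2, 5) ≅ PSL(2, 4)`. -/
theorem exists_four_of_five (e : X ≃* Matrix.ProjectiveSpecialLinearGroup (Fin 2) F) (h5 : Fintype.card F = 5) :
    ∃ (E : Type) (_ : Field E) (_ : Fintype E), Fintype.card E = 4 ∧
      Nonempty (X ≃* Matrix.ProjectiveSpecialLinearGroup (Fin 2) E) := by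
  haveI : Fact (Nat.Prime 2) := ⟨Nat.prime_two⟩
  letI : Fintype (GaloisField 2 2) := Fintype.ofFinite _
  have h4 : Fintype.card (GaloisField 2 2) = 4 := by
    rw [← Nat.card_eq_fintype_card, GaloisField.card 2 2 two_ne_zero]; norm_num
  haveI := CfsgLib.Classical.isSimpleGroup_PSL_two (F := GaloisField 2 2) h4.ge
  haveI := CfsgLib.Classical.isSimpleGroup_PSL_two (F := F) (by omega)
  haveI : IsSimpleGroup X := e.isSimpleGroup_congr.2 inferInstance
  have hc4 := CfsgLib.Classical.Dickson.gcd_mul_card_psl (F := GaloisField 2 2) h4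
  have hc5 := CfsgLib.Classical.Dickson.gcd_mul_card_psl (F := F) h5
  rw [show Nat.gcd 2 (5 - 1) = 2 from rfl, ← Nat.card_congr e.toEquiv] at hc5
  rw [show Nat.gcd 2 (4 - 1) = 1 from rfl, one_mul] at hc4
  obtain ⟨e1⟩ := CfsgLib.Recog.Sixty.iso_alt_five (G := X) (by omega)
  obtain ⟨e2⟩ := CfsgLib.Recog.Sixty.iso_alt_five
    (G := Matrix.ProjectiveSpecialLinearGroup (Fin 2) (GaloisField 2 2)) (by omega)
  exact ⟨GaloisField 2 2, inferInstance, inferInstance, h4, ⟨e1.trans e2.symm⟩⟩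

theorem gcd_two_pow {n : ℕ} (hn : 1 ≤ n) : Nat.gcd 2 (2 ^ n - 1) = 1 := by
  have h1 : (2 ^ n - 1) % 2 = 1 := by
    have : 2 ∣ 2 ^ n := dvd_pow_self 2 (by omega)
    have := Nat.one_le_two_pow (n := n)
    omega
  rw [Nat.gcd_rec, h1]; rfl

/-- The first disjunct of S4371. -/
theorem Three.two_pow_conclusion (h : Three X) {n : ℕ} (hn : 2 ≤ n) (hF : Fintype.card F = 2 ^ n)
    (e : X ≃* Matrix.ProjectiveSpecialLinearGroup (Fin 2) F) :
    CharP F 2 ∧ 4 ≤ Fintype.card F ∧ (Fintype.card F + 1).primeFactorsList.length ≤ 2 ∧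
      (Fintype.card F - 1).primeFactorsList.length ≤ 2 := by
  haveI : Fact (Nat.Prime 2) := ⟨Nat.prime_two⟩
  have h4 : 4 ≤ Fintype.card F := hF ▸ (show 4 = 2 ^ 2 from rfl) ▸ Nat.pow_le_pow_right two_pos hn
  obtain ⟨h1, h2⟩ := h.psl_lengths e h4
  rw [hF, gcd_two_pow (by omega), Nat.div_one, ← hF] at h1 h2
  exact ⟨CfsgLib.Known.AutPSL.charP_of_card hF (by omega), h4, h1, h2⟩

end CfsgLib.ThreeOrders
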