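import Cfsg.Agent.Lib.ThreeOrders.TwoCore
import Cfsg.Agent.Lib.ThreeOrders.OuterTop
import Cfsg.Agent.Lib.ThreeOrders.PSL
import Cfsg.Agent.Lib.ThreeOrders.Suzuki
import Cfsg.Agent.Lib.CIT.CNStructure
import Cfsg.Agent.Lib.GW.DGroup.Main

/-!
# S4371: even orders two and four only
-/

set_option autoImplicit false
set_option linter.style.haveILetI false

namespace CfsgLib.ThreeOrders

open Subgroup CfsgLib.CIT CfsgLib.Known.AutPSL

universe u

/-- The simple CIT groups with even orders two and four. -/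
theorem simple_shapes {L : Type u} [Group L] [Finite L] [IsSimpleGroup L] (hna : ¬ IsMulCommutative L)
    (hC : CIT L) (h2 : 2 ∣ Nat.card L) (h24 : ∀ x : L, 2 ∣ orderOf x → orderOf x = 2 ∨ orderOf x = 4) :
    (∃ (F : Type) (_ : Field F) (_ : Fintype F),
        ((∃ n : ℕ, 2 ≤ n ∧ Fintype.card F = 2 ^ n) ∨ Fintype.card F = 7 ∨ Fintype.card F = 9) ∧
          Nonempty (L ≃* Matrix.ProjectiveSpecialLinearGroup (Fin 2) F)) ∨
      IsPSLThreeFour L ∨
      ∃ (F : Type) (_ : Field F) (_ : Fintype F) (l : ℕ), 1 ≤ l ∧ Fintype.card F = 2 ^ (2 * l + 1) ∧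
        Nonempty (L ≃* Cfsg.Sz F l) := by
  classical
  rcases simple_cit hna hC h2 with ⟨F, iF, iFt, hF, ⟨e⟩⟩ | h34 | hSz
  · refine Or.inl ?_
    set q := Fintype.card F with hq
    have hcard := CfsgLib.Classical.Dickson.gcd_mul_card_psl (F := F) hq.symm
    rw [← Nat.card_congr e.toEquiv] at hcard
    have hns : ¬ Group.IsSolvable L := fun hs => hna ⟨⟨IsSimpleGroup.comm_iff_isSolvable.2 hs⟩⟩
    have hq4 : 4 ≤ q := by
      have h1 : 1 < q := Fintype.one_lt_card
      by_contra hlt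
      have hc : Nat.card L = 6 ∨ Nat.card L = 12 := by
        rcases (show q = 2 ∨ q = 3 by omega) with e2 | e2 <;> rw [e2] at hcard
        · rw [show Nat.gcd 2 (2 - 1) = 1 from rfl, one_mul] at hcard
          exact Or.inl (by omega)
        · rw [show Nat.gcd 2 (3 - 1) = 2 from rfl] at hcard
          exact Or.inr (by omega)
      refine hns (CfsgLib.Recog.Sixty.isSolvable_of_dvd_sixty ?_ (by omega))
      rcases hc with e2 | e2 <;> rw [e2] <;> norm_num
    rcases hF with h9 | ⟨n, hn⟩ | ⟨hpr, k, hk⟩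
    · exact ⟨F, iF, iFt, Or.inr (Or.inr h9), ⟨e⟩⟩
    · refine ⟨F, iF, iFt, Or.inl ⟨n, ?_, hn⟩, ⟨e⟩⟩
      by_contra hlt
      rcases (show n = 0 ∨ n = 1 by omega) with rfl | rfl <;> omega
    · have hodd : q % 2 = 1 := by
        rcases hpr.eq_two_or_odd with h' | h' <;> omega
      have hk3 : k ≤ 3 := by
        by_contra hgt
        obtain ⟨j, rfl⟩ := Nat.exists_eq_add_of_le (show 4 ≤ k by omega)
        have hg : Nat.gcd 2 (q - 1) = 2 := Nat.gcd_eq_left (by omega)
        rw [pow_add] at hk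
        obtain ⟨x, hx⟩ := exists_orderOf_psl e hq4 (n := 8) (by
          rw [← hq, hg]
          rcases hk with hk | hk
          · exact Or.inl ⟨2 ^ j, by omega⟩
          · exact Or.inr ⟨2 ^ j, by omega⟩)
        rcases h24 x (by rw [hx]; norm_num) with e' | e' <;> omega
      rcases (show q = 5 ∨ q = 7 by
        interval_cases k <;> rcases hk with hk | hk <;> first | omega | exact absurd hpr (by rw [show q = 9 by omega]; norm_num)) with h5 | h7
      · obtain ⟨E, iE, iEt, hE, f⟩ := exists_four_of_five e h5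
        exact ⟨E, iE, iEt, Or.inl ⟨2, le_rfl, by rw [hE]; rfl⟩, f⟩
      · exact ⟨F, iF, iFt, Or.inr (Or.inl h7), ⟨e⟩⟩
  · exact Or.inr (Or.inl h34)
  · refine Or.inr (Or.inr (exists_iso_sz hna hC h2 ?_))
    obtain ⟨-, m, hm, hcard⟩ := hSz
    rw [hcard]
    have h3 : 2 ^ (2 * m + 1) % 3 = 2 := by
      rw [pow_succ, pow_mul, Nat.mul_mod, Nat.pow_mod]
      norm_num
    generalize 2 ^ (2 * m + 1) = q at h3
    intro h
    have e1 : q ^ 2 % 3 = 1 := by rw [Nat.pow_mod, h3]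
    have e2 : (q ^ 2 + 1) % 3 = 2 := by omega
    have e3 : (q - 1) % 3 = 1 := by omega
    have : q ^ 2 * (q ^ 2 + 1) * (q - 1) % 3 = 2 := by
      rw [Nat.mul_mod, Nat.mul_mod (q ^ 2), e1, e2, e3]
    omega

/-- The Frobenius group of order 21 in `PSL(2, 7)`. -/
theorem exists_frobenius_seven {F : Type} [Field F] [Fintype F] (hF : Fintype.card F = 7) {X : Type u} [Group X]
    (e : X ≃* PSL 2 F) :
    ∃ (K : Subgroup X) (y : X), Odd (Nat.card K) ∧ K ≠ ⊥ ∧ y ^ 3 = 1 ∧ y ≠ 1 ∧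
      (∀ i : ℕ, ∀ k ∈ K, (y ^ i)⁻¹ * k * y ^ i ∈ K) ∧
      ∀ i : ℕ, 0 < i → i < 3 → ∀ k ∈ K, (y ^ i)⁻¹ * k * y ^ i = k → k = 1 := by
  classical
  haveI : Fact (Nat.Prime 7) := ⟨by norm_num⟩
  haveI : CharP F 7 := charP_of_card (p := 7) (f := 1) (by rw [hF]; rfl) le_rfl
  have h7 : (7 : F) = 0 := by exact_mod_cast CharP.cast_eq_zero F 7
  have hne : ∀ n : ℕ, n < 7 → 0 < n → (n : F) ≠ 0 := fun n hn hn0 h => by
    have := Nat.le_of_dvd hn0 ((CharP.cast_eq_zero_iff F 7 n).1 h)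
    omega
  let D : SL 2 F := ⟨!![2, 0; 0, 4], by simp [Matrix.det_fin_two_of]; linear_combination h7⟩
  have hDp : D * D * D = 1 := Subtype.ext (by
    rw [Matrix.SpecialLinearGroup.coe_mul, Matrix.SpecialLinearGroup.coe_mul]
    ext i j
    fin_cases i <;> fin_cases j <;> simp [D]
    · linear_combination h7
    · linear_combination (9 : F) * h7)
  set d := e.symm (proj 2 F D) with hd
  set u := fun a : F => e.symm (proj 2 F (uElt a)) with hu
  have hconj : ∀ (i : ℕ) (a : F), (d ^ i)⁻¹ * u a * d ^ i = u (2 ^ i * a) := by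
    intro i
    induction i with
    | zero => intro a; simp
    | succ i ih =>
      intro a
      have h1 : d⁻¹ * u (2 ^ i * a) * d = u (2 ^ (i + 1) * a) := by
        rw [mul_assoc, inv_mul_eq_iff_eq_mul, hd, hu]
        simp only [← map_mul]
        congr 2
        refine Subtype.ext ?_
        rw [Matrix.SpecialLinearGroup.coe_mul, Matrix.SpecialLinearGroup.coe_mul]
        ext r c
        fin_cases r <;> fin_cases c <;> simp [D, uElt, pow_succ] <;> ring
      rw [← h1, ← ih a, pow_succ]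
      group
  have hum : ∀ n : ℕ, u 1 ^ n = u (n : F) := fun n => by
    rw [hu]; simp only; rw [← map_pow, ← map_pow, uElt_pow, mul_one]
  have hu1 : ∀ a : F, a ≠ 0 → u a ≠ 1 := fun a ha h => by
    have := congrArg e h
    simp only [hu, e.apply_symm_apply, map_one] at this
    exact proj_ne_one (Or.inr (by simpa [uElt] using ha)) this
  have huo : orderOf (u 1) = 7 := by
    rw [hu]; simp only
    rw [MulEquiv.orderOf_eq, orderOf_uElt (p := 7) one_ne_zero]
  have hmem : ∀ k ∈ zpowers (u 1), ∃ n : ℕ, k = u (n : F) := fun k hk => by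
    obtain ⟨n, rfl⟩ := (orderOf_pos_iff.1 (by omega : 0 < orderOf (u 1))).mem_powers_iff_mem_zpowers.2 hk
    exact ⟨n, hum n⟩
  have hd1 : d ≠ 1 := fun h => by
    have := congrArg e h
    simp only [hd, e.apply_symm_apply, map_one] at this
    rw [← map_one (proj 2 F), proj_eq_iff] at this
    obtain ⟨c, hc0, hc⟩ := this
    have h00 := congrFun₂ hc 0 0
    have h11 := congrFun₂ hc 1 1
    simp [D] at h00 h11
    have h20 : c * (2 : F) = 0 := by linear_combination h00 - h11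
    exact hne 2 (by norm_num) two_pos (by push_cast; exact (mul_eq_zero.1 h20).resolve_left hc0)
  refine ⟨zpowers (u 1), d, by rw [Nat.card_zpowers, huo]; decide, zpowers_ne_bot.2 (hu1 1 one_ne_zero),
    by rw [pow_succ, pow_two, hd, ← map_mul, ← map_mul, ← map_mul, ← map_mul, hDp, map_one, map_one], hd1,
    fun i k hk => ?_, fun i hi hi3 k hk he => ?_⟩
  · obtain ⟨n, rfl⟩ := hmem k hk
    rw [hconj, show (2 : F) ^ i * n = ((2 ^ i * n : ℕ) : F) by push_cast; rfl, ← hum]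
    exact pow_mem (mem_zpowers _) _
  · obtain ⟨n, rfl⟩ := hmem k hk
    rw [hconj] at he
    by_contra hk1
    have hn : (n : F) ≠ 0 := fun h0 => hk1 (by rw [h0, hu]; simp only; rw [uElt_zero, map_one, map_one])
    have : u (2 ^ i * (n : F) - n) = 1 := by
      have h1 : u (2 ^ i * (n : F) - n) * u n = u (2 ^ i * n) := by
        rw [hu]; simp only; rw [← map_mul, ← map_mul, uElt_mul, sub_add_cancel]
      rwa [he, mul_eq_right] at h1
    refine hu1 _ ?_ this
    rw [show (2 : F) ^ i * n - n = ((2 ^ i - 1 : ℕ) : F) * n by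
      rw [Nat.cast_sub Nat.one_le_two_pow]; push_cast; ring]
    refine mul_ne_zero ?_ hn
    rcases (show i = 1 ∨ i = 2 by omega) with rfl | rfl <;> exact hne _ (by norm_num) (by norm_num)

variable {G : Type u} [Group G] [Finite G]

/-- The conclusion in the CIT case. -/
theorem cit_case (h : Three G) (hC : CIT G) (h24 : ∀ x : G, 2 ∣ orderOf x → orderOf x = 2 ∨ orderOf x = 4)
    (hns : ¬ Group.IsSolvable G) :
    (∃ (F : Type) (_ : Field F) (_ : Fintype F), CharP F 2 ∧ 4 ≤ Fintype.card F ∧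
        (Fintype.card F + 1).primeFactorsList.length ≤ 2 ∧ (Fintype.card F - 1).primeFactorsList.length ≤ 2 ∧
        Nonempty (G ⧸ Cfsg.pCore 2 G ≃* Matrix.ProjectiveSpecialLinearGroup (Fin 2) F)) ∨
    (∃ (F : Type) (_ : Field F) (_ : Fintype F), (Fintype.card F = 7 ∨ Fintype.card F = 9) ∧
        Nonempty (G ≃* Matrix.ProjectiveSpecialLinearGroup (Fin 2) F)) ∨
    (∃ (F : Type) (_ : Field F) (_ : Fintype F), Fintype.card F = 4 ∧
        Nonempty (G ≃* Matrix.ProjectiveSpecialLinearGroup (Fin 3) F)) ∨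
    (∃ n : ℕ, 1 ≤ n ∧ IsSimpleGroup G ∧
        Nat.card G = (2 ^ (2 * n + 1)) ^ 2 * ((2 ^ (2 * n + 1)) ^ 2 + 1) * (2 ^ (2 * n + 1) - 1) ∧
        (2 ^ (2 * n + 1) - 1).primeFactorsList.length ≤ 2 ∧
        (2 ^ (2 * n + 1) - 2 ^ (n + 1) + 1).primeFactorsList.length ≤ 2 ∧
        (2 ^ (2 * n + 1) + 2 ^ (n + 1) + 1).primeFactorsList.length ≤ 2) := by
  classical
  haveI : Fact (Nat.Prime 2) := ⟨Nat.prime_two⟩
  set R := Cfsg.pCore 2 G with hRdef
  haveI : R.Normal := CfsgLib.Core.normal_pCore 2 G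
  have hR2 : IsPGroup 2 R := CfsgLib.Core.isPGroup_pCore 2 G
  have hQ3 : Three (G ⧸ R) := h.of_map _ (QuotientGroup.mk'_surjective R)
  have hQ24 : ∀ x : G ⧸ R, 2 ∣ orderOf x → orderOf x = 2 ∨ orderOf x = 4 := by
    intro x hx
    obtain ⟨g, rfl⟩ := QuotientGroup.mk'_surjective R x
    obtain ⟨z, hz⟩ := CfsgLib.Recog.ThreePrimes.exists_orderOf_of_map (QuotientGroup.mk' R) g rfl
    rw [← hz] at hx ⊢
    exact h24 z hx
  have hQC : CIT (G ⧸ R) := cit_iff_no_two_prime.2 fun r hr hr2 ⟨x, hx⟩ => by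
    have := hr.two_le
    rcases hQ24 x (hx ▸ dvd_mul_right 2 r) with e | e <;> omega
  have hQns : ¬ Group.IsSolvable (G ⧸ R) := by
    haveI : Group.IsNilpotent R := hR2.isNilpotent
    exact CfsgLib.GW.DGroup.not_isSolvable_quotient R inferInstance hns
  obtain ⟨L, hLn, hLs, hLna, hL2, hLC⟩ := exists_simple_normal hQC (two_dvd_card hQns) hQns
    (CfsgLib.Core.pCore_quotient_pCore 2 G)
  haveI := hLn
  haveI := hLs
  have hL24 : ∀ x : L, 2 ∣ orderOf x → orderOf x = 2 ∨ orderOf x = 4 := fun x hx => by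
    rw [← Subgroup.orderOf_coe] at hx ⊢
    exact hQ24 _ hx
  have hbot : R = ⊥ → Nonempty (G ≃* G ⧸ R) := fun e =>
    ⟨((QuotientGroup.quotientMulEquivOfEq e).trans QuotientGroup.quotientBot).symm⟩
  rcases simple_shapes hLna (hQC.subgroup L) hL2 hL24 with ⟨F, iF, iFt, hq, ⟨e⟩⟩ | h34 | ⟨F, iF, iFt, l, hl, hF, ⟨e⟩⟩
  · have htop : L = ⊤ := top_of_cit e hLC hQC hQ24 (by
      rcases hq with ⟨n, -, hn⟩ | hq
      exacts [Or.inl ⟨n, hn⟩, Or.inr hq])
    subst htop
    let eQ : G ⧸ R ≃* Matrix.ProjectiveSpecialLinearGroup (Fin 2) F := topEquiv.symm.trans e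
    rcases hq with ⟨n, hn, hF⟩ | hq
    · obtain ⟨a, b, c, d⟩ := hQ3.two_pow_conclusion hn hF eQ
      exact Or.inl ⟨F, iF, iFt, a, b, c, d, ⟨eQ⟩⟩
    · have hRb : R = ⊥ := by
        by_contra hRb
        rcases hq with h7 | h9
        · obtain ⟨K, y, hK, hKb, hy, hy1, hn, hf⟩ := exists_frobenius_seven h7 eQ
          exact no_frobenius_three hC R hR2 hRb K hK hKb y hy hy1 hn hf
        · obtain ⟨a, b, f, h1, h2, h3, h4, h5, h6, h7, -, -, -⟩ := (nineData_psl_nine h9).congr eQ.symm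
          exact no_nine hC R hR2 hRb a b h1 h2 h3 h4 h5 h6 h7
      obtain ⟨eR⟩ := hbot hRb
      exact Or.inr (Or.inl ⟨F, iF, iFt, hq, ⟨eR.trans eQ⟩⟩)
  · obtain ⟨F, iF, iFt, hF, ⟨e⟩⟩ := h34
    have hcard : Nat.card L = 20160 :=
      (Nat.card_congr e.toEquiv).trans (CfsgLib.Known.L34.card_PSL hF)
    obtain ⟨a, b, f, ha3, hb3, hab, ha, hb, hba, hba', hf, hfa, hfb⟩ := (nineData_psl_three_four hF).congr e.symm
    obtain ⟨-, htop'⟩ := index_nine hQC hLna (by rw [hcard]; norm_num) ha3 hb3 hab ha hb hba hba' hf hfa hfb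
    have htop : L = ⊤ := htop' (fun r hr hr3 z hza hz => by
      have hao : orderOf a = 3 := by
        haveI : Fact (Nat.Prime 3) := ⟨Nat.prime_three⟩
        exact orderOf_eq_prime ha3 ha
      have hza' : orderOf (z * a) = r * 3 := by
        rw [(show Commute z a from hza).orderOf_mul_eq_mul_orderOf_of_coprime
          (by rw [hz, hao]; exact (Nat.coprime_primes hr Nat.prime_three).2 hr3), hz, hao]
      obtain ⟨n, hn, hdvd⟩ := orderOf_dvd_psl_three_four hF (e (z * a))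
      rw [MulEquiv.orderOf_eq, hza'] at hdvd
      simp at hn
      have := hr.two_le
      have h3 : 3 ∣ n := (dvd_mul_left 3 r).trans hdvd
      rcases hn with rfl | rfl | rfl | rfl
      · have := Nat.le_of_dvd (by norm_num) hdvd
        omega
      all_goals omega) fun n hn => by omega
    subst htop
    let eQ : G ⧸ R ≃* Matrix.ProjectiveSpecialLinearGroup (Fin 3) F := topEquiv.symm.trans e
    have hRb : R = ⊥ := by
      by_contra hRb
      obtain ⟨a', b', -, h1, h2, h3, h4, h5, h6, h7, -, -, -⟩ := (nineData_psl_three_four hF).congr eQ.symm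
      exact no_nine hC R hR2 hRb a' b' h1 h2 h3 h4 h5 h6 h7
    obtain ⟨eR⟩ := hbot hRb
    exact Or.inr (Or.inr (Or.inl ⟨F, iF, iFt, hF, ⟨eR.trans eQ⟩⟩))
  · have htop := top_of_suzuki hQC hLC hl hF e
    subst htop
    let eQ : G ⧸ R ≃* Cfsg.Sz F l := topEquiv.symm.trans e
    have hRb : R = ⊥ := by
      by_contra hRb
      obtain ⟨K, y, hK, hKb, hy, hn, hf⟩ := exists_frobenius_four hl hF
      refine no_frobenius_four hC R hR2 hRb h24 (K.map eQ.symm.toMonoidHom) ?_ ?_ (eQ.symm y) ?_ ?_ ?_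
      · rwa [← Nat.card_congr (K.equivMapOfInjective _ eQ.symm.injective).toEquiv]
      · exact fun e' => hKb ((map_eq_bot_iff_of_injective _ eQ.symm.injective).1 e')
      · rw [MulEquiv.orderOf_eq, hy]
      · rintro i _ ⟨k, hk, rfl⟩
        exact ⟨(y ^ i)⁻¹ * k * y ^ i, hn i k hk, by simp⟩
      · rintro i hi hi4 _ ⟨k, hk, rfl⟩ he
        rw [hf i hi hi4 k hk (eQ.symm.injective (by simpa using he)), map_one]
    obtain ⟨eR⟩ := hbot hRb
    let eG : G ≃* Cfsg.Sz F l := eR.trans eQ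
    have hlen : ∀ k, (k = 2 ^ (2 * l + 1) - 1 ∨ k = 2 ^ (2 * l + 1) + 2 ^ (l + 1) + 1 ∨
        k = 2 ^ (2 * l + 1) - 2 ^ (l + 1) + 1) → k.primeFactorsList.length ≤ 2 := fun k hk => by
      obtain ⟨g, hg⟩ := exists_orderOf_sz hl hF hk
      have := h.length_le (eG.symm g)
      rwa [MulEquiv.orderOf_eq, hg] at this
    haveI := Cfsg.Agent.S0325.result hl hF
    exact Or.inr (Or.inr (Or.inr ⟨l, hl, eG.isSimpleGroup_congr.2 inferInstance,
      (Nat.card_congr eG.toEquiv).trans (Cfsg.Agent.S0324.result hl hF),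
      hlen _ (Or.inl rfl), hlen _ (Or.inr (Or.inr rfl)), hlen _ (Or.inr (Or.inl rfl))⟩))

end CfsgLib.ThreeOrders
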