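import Cfsg.Agent.Lib.ThreeOrders.OddCore
import Cfsg.Agent.Lib.ThreeOrders.OuterTop
import Cfsg.Agent.Lib.ThreeOrders.PSL
import Cfsg.Agent.Lib.AbelianSolvCent.Main

/-!
# S4371: no element order divisible by four
-/

set_option autoImplicit false
set_option linter.style.haveILetI false

namespace CfsgLib.ThreeOrders

open Subgroup

universe u

variable {G : Type u} [Group G] [Finite G]

theorem exponent_case (h : Three G) (h4 : ∀ x : G, ¬ 4 ∣ orderOf x) (hns : ¬ Group.IsSolvable G) :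
    (∃ (F : Type) (_ : Field F) (_ : Fintype F), CharP F 2 ∧ 4 ≤ Fintype.card F ∧
        (Fintype.card F + 1).primeFactorsList.length ≤ 2 ∧ (Fintype.card F - 1).primeFactorsList.length ≤ 2 ∧
        Nonempty (G ⧸ Cfsg.pCore 2 G ≃* Matrix.ProjectiveSpecialLinearGroup (Fin 2) F)) ∨
    (∃ (F : Type) (_ : Field F) (_ : Fintype F), 5 < Fintype.card F ∧ (Fintype.card F % 8 = 3 ∨ Fintype.card F % 8 = 5) ∧
        ((Fintype.card F + 1) / 2).primeFactorsList.length ≤ 2 ∧ ((Fintype.card F - 1) / 2).primeFactorsList.length ≤ 2 ∧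
        Nonempty (G ≃* Matrix.ProjectiveSpecialLinearGroup (Fin 2) F)) := by
  classical
  haveI : Fact (Nat.Prime 2) := ⟨Nat.prime_two⟩
  obtain ⟨S⟩ := (inferInstance : Nonempty (Sylow 2 G))
  rcases CfsgLib.AbelianSolvCent.main S (abSylow h h4 S) (solvCent h h4) with hs | ⟨F, iF, iFt, hq, M, hM, ⟨e⟩, hMC⟩
  · exact absurd hs hns
  haveI := hM
  have hO := oddCore_eq_bot h h4 hns
  let π : G ⧸ Cfsg.oddCore G ≃* G := (QuotientGroup.quotientMulEquivOfEq hO).trans QuotientGroup.quotientBot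
  have hq4 : 4 ≤ Fintype.card F := by
    rcases hq with ⟨-, h5⟩ | ⟨n, hn, hF⟩
    · omega
    · exact hF ▸ (show 4 = 2 ^ 2 from rfl) ▸ Nat.pow_le_pow_right two_pos hn
  have htop : M = ⊤ := top_of_exponent e hMC (h.of_map _ (QuotientGroup.mk'_surjective _))
    (exponent_quotient h4 _) hq4 (by
      rcases hq with ⟨h35, -⟩ | ⟨n, -, hF⟩
      · exact Or.inr h35
      · exact Or.inl ⟨n, hF⟩)
  subst htop
  let eG : G ≃* Matrix.ProjectiveSpecialLinearGroup (Fin 2) F := π.symm.trans (topEquiv.symm.trans e)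
  have hcore : Cfsg.pCore 2 G = ⊥ := eq_bot_of_two_group h h4 hns _ (CfsgLib.Core.isPGroup_pCore 2 G)
  have hiso : ∀ (E : Type) [Field E], (G ≃* Matrix.ProjectiveSpecialLinearGroup (Fin 2) E) →
      Nonempty (G ⧸ Cfsg.pCore 2 G ≃* Matrix.ProjectiveSpecialLinearGroup (Fin 2) E) := fun E _ f =>
    ⟨((QuotientGroup.quotientMulEquivOfEq hcore).trans QuotientGroup.quotientBot).trans f⟩
  have two : ∀ (E : Type) [Field E] [Fintype E] (n : ℕ), 2 ≤ n → Fintype.card E = 2 ^ n →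
      (G ≃* Matrix.ProjectiveSpecialLinearGroup (Fin 2) E) →
      (∃ (F : Type) (_ : Field F) (_ : Fintype F), CharP F 2 ∧ 4 ≤ Fintype.card F ∧
        (Fintype.card F + 1).primeFactorsList.length ≤ 2 ∧ (Fintype.card F - 1).primeFactorsList.length ≤ 2 ∧
        Nonempty (G ⧸ Cfsg.pCore 2 G ≃* Matrix.ProjectiveSpecialLinearGroup (Fin 2) F)) := fun E iE iEt n hn hE f => by
    obtain ⟨a, b, c, d⟩ := h.two_pow_conclusion hn hE f
    exact ⟨E, iE, iEt, a, b, c, d, hiso E f⟩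
  rcases hq with ⟨h35, h5⟩ | ⟨n, hn, hF⟩
  · rcases Nat.lt_or_ge 5 (Fintype.card F) with hlt | hge
    · have hg : Nat.gcd 2 (Fintype.card F - 1) = 2 := Nat.gcd_eq_left (by omega)
      obtain ⟨h1, h2⟩ := h.psl_lengths eG hq4
      rw [hg] at h1 h2
      exact Or.inr ⟨F, iF, iFt, hlt, h35, h1, h2, ⟨eG⟩⟩
    · obtain ⟨E, iE, iEt, hE, ⟨f⟩⟩ := exists_four_of_five eG (by omega)
      exact Or.inl (two E 2 le_rfl (by rw [hE]; rfl) f)
  · exact Or.inl (two F n hn hF eG)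

end CfsgLib.ThreeOrders
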