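import Cfsg.Agent.Lib.ThreeOrders.CaseExponent
import Cfsg.Agent.Lib.ThreeOrders.CaseCIT

/-!
# S4371: non-solvable groups in which no prime divides three element orders
-/

set_option autoImplicit false

namespace CfsgLib.ThreeOrders

universe u

variable {G : Type u} [Group G] [Finite G]

theorem classify (h : Three G) (hns : ¬ Group.IsSolvable G) :
    (∃ (F : Type) (_ : Field F) (_ : Fintype F), CharP F 2 ∧ 4 ≤ Fintype.card F ∧
        (Fintype.card F + 1).primeFactorsList.length ≤ 2 ∧ (Fintype.card F - 1).primeFactorsList.length ≤ 2 ∧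
        Nonempty (G ⧸ Cfsg.pCore 2 G ≃* Matrix.ProjectiveSpecialLinearGroup (Fin 2) F)) ∨
    (∃ (F : Type) (_ : Field F) (_ : Fintype F), 5 < Fintype.card F ∧ (Fintype.card F % 8 = 3 ∨ Fintype.card F % 8 = 5) ∧
        ((Fintype.card F + 1) / 2).primeFactorsList.length ≤ 2 ∧ ((Fintype.card F - 1) / 2).primeFactorsList.length ≤ 2 ∧
        Nonempty (G ≃* Matrix.ProjectiveSpecialLinearGroup (Fin 2) F)) ∨
    (∃ (F : Type) (_ : Field F) (_ : Fintype F), (Fintype.card F = 7 ∨ Fintype.card F = 9) ∧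
        Nonempty (G ≃* Matrix.ProjectiveSpecialLinearGroup (Fin 2) F)) ∨
    (∃ (F : Type) (_ : Field F) (_ : Fintype F), Fintype.card F = 4 ∧
        Nonempty (G ≃* Matrix.ProjectiveSpecialLinearGroup (Fin 3) F)) ∨
    (∃ n : ℕ, 1 ≤ n ∧ IsSimpleGroup G ∧
        Nat.card G = (2 ^ (2 * n + 1)) ^ 2 * ((2 ^ (2 * n + 1)) ^ 2 + 1) * (2 ^ (2 * n + 1) - 1) ∧
        (2 ^ (2 * n + 1) - 1).primeFactorsList.length ≤ 2 ∧
        (2 ^ (2 * n + 1) - 2 ^ (n + 1) + 1).primeFactorsList.length ≤ 2 ∧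
        (2 ^ (2 * n + 1) + 2 ^ (n + 1) + 1).primeFactorsList.length ≤ 2) := by
  rcases h.cit_or_exponent_two with ⟨hC, h24⟩ | h4
  · rcases cit_case h hC h24 hns with hA | hB | hD | hE
    exacts [Or.inl hA, Or.inr (Or.inr (Or.inl hB)), Or.inr (Or.inr (Or.inr (Or.inl hD))),
      Or.inr (Or.inr (Or.inr (Or.inr hE)))]
  · rcases exponent_case h h4 hns with hA | hB
    exacts [Or.inl hA, Or.inr (Or.inl hB)]

end CfsgLib.ThreeOrders
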