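import Mathlib

/-!
# A norm in a Frobenius group acting on an abelian group (S4371)

If `y` moves every nontrivial element of `K` (as do its powers below `n`) and `K` acts nontrivially in coprime
order on an abelian group, some element has nontrivial norm `∏ i < n, yⁱ v`.
-/

set_option autoImplicit false

namespace CfsgLib.ThreeOrders

open Finset

theorem exists_norm_ne {X V : Type*} [Group X] [Finite X] [CommGroup V] [Finite V] (φ : X →* MulAut V)
    (K : Subgroup X) (y : X) {n : ℕ} (hn : 1 ≤ n) (hy : ∀ i : ℕ, ∀ k ∈ K, (y ^ i)⁻¹ * k * y ^ i ∈ K)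
    (hfree : ∀ i : ℕ, 0 < i → i < n → ∀ k ∈ K, (y ^ i)⁻¹ * k * y ^ i = k → k = 1)
    (hcop : (Nat.card V).Coprime (Nat.card K)) (hK : ∃ k ∈ K, φ k ≠ 1) :
    ∃ v : V, ∏ i ∈ range n, φ (y ^ i) v ≠ 1 := by
  classical
  by_contra hall
  push Not at hall
  haveI : Fintype K := Fintype.ofFinite K
  obtain ⟨k0, hk0, hne⟩ := hK
  obtain ⟨w, hw⟩ : ∃ w, φ k0 w ≠ w := by
    by_contra h
    push Not at h
    exact hne (MulEquiv.ext h)
  set v := φ k0 w * w⁻¹ with hv
  have hP : ∏ k : K, φ (k : X) v = 1 := by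
    simp only [hv, map_mul, prod_mul_distrib, map_inv, prod_inv_distrib]
    rw [mul_inv_eq_one]
    refine Fintype.prod_equiv (Equiv.mulRight (⟨k0, hk0⟩ : K)) _ _ fun k => ?_
    simp [map_mul, MulAut.mul_apply]
  have hz : ∀ i, 0 < i → i < n → ∏ k : K, φ ((k : X) * y ^ i * (k : X)⁻¹) v = 1 := by
    intro i hi hin
    let c : K → K := fun k => ⟨(y ^ i)⁻¹ * k * y ^ i * (k : X)⁻¹, mul_mem (hy i k k.2) (inv_mem k.2)⟩
    have hinj : Function.Injective c := by
      intro a b hab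
      have h1 : (y ^ i)⁻¹ * a * y ^ i * (a : X)⁻¹ = (y ^ i)⁻¹ * b * y ^ i * (b : X)⁻¹ := congrArg Subtype.val hab
      have h2 : (y ^ i)⁻¹ * ((b : X)⁻¹ * a) * y ^ i = (b : X)⁻¹ * a := by
        calc (y ^ i)⁻¹ * ((b : X)⁻¹ * a) * y ^ i
            = (y ^ i)⁻¹ * (b : X)⁻¹ * y ^ i * ((y ^ i)⁻¹ * a * y ^ i * (a : X)⁻¹) * a := by group
          _ = (y ^ i)⁻¹ * (b : X)⁻¹ * y ^ i * ((y ^ i)⁻¹ * b * y ^ i * (b : X)⁻¹) * a := by rw [h1]
          _ = (b : X)⁻¹ * a := by group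
      exact Subtype.ext (inv_mul_eq_one.1 (hfree i hi hin _ (mul_mem (inv_mem b.2) a.2) h2)).symm
    calc ∏ k : K, φ ((k : X) * y ^ i * (k : X)⁻¹) v
        = ∏ k : K, φ (y ^ i) (φ (c k : X) v) := Fintype.prod_congr _ _ fun k => by
          rw [← MulAut.mul_apply, ← map_mul]
          congr 2
          simp only [c, mul_assoc, mul_inv_cancel_left]
      _ = φ (y ^ i) (∏ k : K, φ (c k : X) v) := (map_prod _ _ _).symm
      _ = φ (y ^ i) (∏ k : K, φ (k : X) v) := by
          exact congrArg (φ (y ^ i)) (Fintype.prod_bijective c (Finite.injective_iff_bijective.1 hinj)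
            (fun k => φ (c k : X) v) (fun k => φ (k : X) v) fun _ => rfl)
      _ = 1 := by rw [hP, map_one]
  have hsum : ∏ k : K, φ (k : X) (∏ i ∈ range n, φ (y ^ i) (φ (k : X)⁻¹ v)) = 1 :=
    prod_eq_one fun k _ => by rw [hall, map_one]
  simp only [map_prod, ← MulAut.mul_apply, ← map_mul] at hsum
  rw [prod_comm, prod_eq_single 0 (fun i hi h0 => ?_) (fun h => absurd (mem_range.2 hn) h)] at hsum
  · simp only [pow_zero, one_mul, mul_inv_cancel, map_one, MulAut.one_apply, prod_const, card_univ] at hsum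
    rw [← Nat.card_eq_fintype_card, ← orderOf_dvd_iff_pow_eq_one] at hsum
    have h1 := Nat.dvd_gcd (orderOf_dvd_natCard v) hsum
    rw [hcop.gcd_eq_one, Nat.dvd_one, orderOf_eq_one_iff, hv, mul_inv_eq_one] at h1
    exact hw h1
  · simp only [← mul_assoc]
    exact hz i (Nat.pos_of_ne_zero h0) (mem_range.1 hi)

/-- Two commuting automorphisms of order three generating a group of order nine have a fixed point. -/
theorem eq_one_of_nine {V : Type*} [CommGroup V] [Finite V] (A B : MulAut V) (hA : A ^ 3 = 1) (hB : B ^ 3 = 1)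
    (hAB : A * B = B * A) (hcop : (Nat.card V).Coprime 3)
    (hfix : ∀ x ∈ ({A, B, A * B, A ^ 2 * B} : Set (MulAut V)), ∀ v : V, x v = v → v = 1) (v : V) : v = 1 := by
  have hc : Commute A B := hAB
  have hn : ∀ x ∈ ({A, B, A * B, A ^ 2 * B} : Set (MulAut V)), x ^ 3 = 1 → ∀ w : V, w * x w * (x ^ 2) w = 1 := by
    intro x hx hx3 w
    refine hfix x hx _ ?_
    rw [map_mul, map_mul, ← MulAut.mul_apply, ← MulAut.mul_apply, ← pow_two, ← pow_succ', hx3, MulAut.one_apply,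
      mul_comm, mul_assoc]
  have h1 := hn A (by simp) hA v
  have h2 := hn B (by simp) hB v
  have h3 := hn (A * B) (by simp) (by rw [hc.mul_pow, hA, hB, one_mul]) v
  have h4 := hn (A ^ 2 * B) (by simp) (by
    rw [(hc.pow_left 2).mul_pow, ← pow_mul, show A ^ (2 * 3) = (A ^ 3) ^ 2 by rw [← pow_mul], hA, hB, one_pow,
      one_mul]) v
  have h5 := hn A (by simp) hA (v * B v * (B ^ 2) v)
  rw [hc.mul_pow] at h3
  rw [(hc.pow_left 2).mul_pow, ← pow_mul, show A ^ (2 * 2) = A by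
    rw [show 2 * 2 = 3 + 1 from rfl, pow_succ, hA, one_mul]] at h4
  simp only [map_mul, MulAut.mul_apply] at h3 h4 h5
  have h9 : v ^ 3 = 1 := by
    calc v ^ 3 = (v * A v * (A ^ 2) v) * (v * B v * (B ^ 2) v) * (v * A (B v) * (A ^ 2) ((B ^ 2) v)) *
          (v * (A ^ 2) (B v) * A ((B ^ 2) v)) *
          ((v * B v * (B ^ 2) v) * (A v * A (B v) * A ((B ^ 2) v)) *
            ((A ^ 2) v * (A ^ 2) (B v) * (A ^ 2) ((B ^ 2) v)))⁻¹ := by
          rw [eq_mul_inv_iff_mul_eq, pow_succ, pow_two]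
          ac_rfl
      _ = 1 := by rw [h5, h1, h2, h3, h4]; simp
  have h := Nat.dvd_gcd (orderOf_dvd_natCard v) (orderOf_dvd_of_pow_eq_one h9)
  rwa [hcop.gcd_eq_one, Nat.dvd_one, orderOf_eq_one_iff] at h

end CfsgLib.ThreeOrders
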