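import Cfsg.Agent.Lib.ThreeOrders.Norm

/-!
# The norm lemma inside a group (S4371)
-/

set_option autoImplicit false

namespace CfsgLib.ThreeOrders

open Subgroup Finset
open scoped IsMulCommutative

variable {G X : Type*} [Group G] [Finite G] [Group X] [Finite X]

/-- `(v y)ⁿ = (∏ i < n, yⁱ v y⁻ⁱ) yⁿ` on an abelian normal subgroup. -/
theorem coe_prod_mul_pow (V : Subgroup G) [V.Normal] [IsMulCommutative V] (v : V) (y : G) :
    ∀ n : ℕ, ((∏ i ∈ range n, MulAut.conjNormal (y ^ i) v : V) : G) * y ^ n = ((v : G) * y) ^ n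
  | 0 => by simp
  | n + 1 => by
    rw [pow_succ ((v : G) * y), ← coe_prod_mul_pow V v y n, prod_range_succ, Subgroup.coe_mul,
      MulAut.conjNormal_apply, pow_succ]
    group

/-- Some element of the coset `V y` has another `n`-th power. -/
theorem exists_mul_pow_ne (f : G →* X) (hf : Function.Surjective f) (V : Subgroup G) [V.Normal]
    [IsMulCommutative V] (hker : f.ker ≤ centralizer (V : Set G)) (K : Subgroup X) (y : G) {n : ℕ} (hn : 1 ≤ n)
    (hy : ∀ i : ℕ, ∀ k ∈ K, (f y ^ i)⁻¹ * k * f y ^ i ∈ K)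
    (hfree : ∀ i : ℕ, 0 < i → i < n → ∀ k ∈ K, (f y ^ i)⁻¹ * k * f y ^ i = k → k = 1)
    (hcop : (Nat.card V).Coprime (Nat.card K)) (hK : ∃ g : G, f g ∈ K ∧ ∃ v ∈ V, g * v * g⁻¹ ≠ v) :
    ∃ v ∈ V, ((v : G) * y) ^ n ≠ y ^ n := by
  have hk : f.ker ≤ (MulAut.conjNormal : G →* MulAut V).ker := fun g hg => by
    rw [MonoidHom.mem_ker]
    refine MulEquiv.ext fun v => Subtype.ext ?_
    rw [MulAut.conjNormal_apply, MulAut.one_apply]
    exact mul_inv_eq_iff_eq_mul.2 (mem_centralizer_iff.1 (hker hg) v v.2).symm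
  let φ : X →* MulAut V := f.liftOfSurjective hf ⟨MulAut.conjNormal, hk⟩
  have hφ : ∀ g, φ (f g) = MulAut.conjNormal g := fun g =>
    MonoidHom.liftOfRightInverse_comp_apply _ _ (Function.rightInverse_surjInv hf) ⟨MulAut.conjNormal, hk⟩ g
  obtain ⟨g, hg, w, hw, hgw⟩ := hK
  obtain ⟨v, hv⟩ := exists_norm_ne φ K (f y) hn hy hfree hcop ⟨f g, hg, fun e => hgw (by
    have h1 := congrArg Subtype.val (DFunLike.congr_fun e (⟨w, hw⟩ : V))
    rwa [hφ, MulAut.conjNormal_apply] at h1)⟩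
  simp only [← map_pow, hφ] at hv
  refine ⟨v, v.2, fun e => hv (Subtype.ext ?_)⟩
  rw [← coe_prod_mul_pow V v y n, mul_eq_right] at e
  exact e

end CfsgLib.ThreeOrders
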