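import Cfsg.Agent.Lib.ThreeOrders.Basic
import Cfsg.Agent.Lib.ThreeOrders.NormGroup
import Cfsg.Agent.Lib.CIT.FrobeniusSystem
import Cfsg.Agent.Lib.AbelianSolvCent.Reduce
import Cfsg.Agent.Lib.Recog.SemidirectSpectrum
import Cfsg.Agent.Lib.OddGated.Metacyclic

/-!
# Elementary abelian Sylow 2-subgroups and no three orders: the odd core is trivial (S4371)

An element of prime order acting on a subgroup of a Sylow 2-subgroup without fixed points, the latter acting
nontrivially on an abelian odd normal subgroup, produces an element of forbidden order.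
-/

set_option autoImplicit false
set_option linter.style.haveILetI false

namespace CfsgLib.ThreeOrders

open Subgroup CfsgLib.AbelianSolvCent
open scoped IsMulCommutative

universe u

variable {G : Type u} [Group G] [Finite G] (h : Three G) (h4 : ∀ x : G, ¬ 4 ∣ orderOf x)
include h h4

theorem sq_eq_one_of_two {P : Subgroup G} (hP : IsPGroup 2 P) {x : G} (hx : x ∈ P) : x * x = 1 := by
  obtain ⟨k, hk⟩ := CfsgLib.CIT.orderOf_two_pow_of_mem hP hx
  rcases k with _ | _ | k
  · rw [pow_zero, orderOf_eq_one_iff] at hk; rw [hk, one_mul]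
  · rw [← pow_two, ← orderOf_dvd_iff_pow_eq_one, hk]; rfl
  · exact absurd ⟨2 ^ k, by rw [hk, pow_succ, pow_succ]; ring⟩ (h4 x)

theorem abSylow : AbSylow G := fun P => IsMulCommutative.of_comm fun a b => by
  have hs : ∀ c : ↥(P : Subgroup G), c⁻¹ = c := fun c =>
    inv_eq_of_mul_eq_one_left (Subtype.ext (sq_eq_one_of_two h h4 P.2 c.2))
  calc a * b = (a * b)⁻¹ := (hs _).symm
    _ = b * a := by rw [mul_inv_rev, hs, hs]

/-- The only odd prime next to the prime two. -/
theorem eq_of_commute {t : G} (ht : orderOf t = 2) {x y : G} {p q : ℕ} (hp : p.Prime) (hq : q.Prime)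
    (hp2 : p ≠ 2) (hq2 : q ≠ 2) (hx : orderOf x = p) (hy : orderOf y = q) (hxt : Commute t x)
    (hyt : Commute t y) : p = q := by
  by_contra hne
  have hx' : orderOf (t * x) = 2 * p := by
    rw [hxt.orderOf_mul_eq_mul_orderOf_of_coprime (by rw [ht, hx]; exact (Nat.coprime_primes Nat.prime_two hp).2 (Ne.symm hp2)), ht, hx]
  have hy' : orderOf (t * y) = 2 * q := by
    rw [hyt.orderOf_mul_eq_mul_orderOf_of_coprime (by rw [ht, hy]; exact (Nat.coprime_primes Nat.prime_two hq).2 (Ne.symm hq2)), ht, hy]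
  have := hp.two_le
  have := hq.two_le
  exact h 2 Nat.prime_two t (t * x) (t * y) (by omega) (by omega) (by omega)
    ⟨ht ▸ dvd_rfl, hx' ▸ dvd_mul_right 2 p, hy' ▸ dvd_mul_right 2 q⟩

theorem solvCent : SolvCent G := by
  intro t ht
  set C := centralizer ({t} : Set G) with hC
  obtain ⟨a, m, hm, ham⟩ := Nat.exists_eq_two_pow_mul_odd (Nat.card_pos (α := C)).ne'
  have key : ∀ p, p.Prime → p ∣ m → ∃ x : G, orderOf x = p ∧ Commute t x ∧ p ≠ 2 := by
    intro p hp hpm
    haveI := Fact.mk hp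
    obtain ⟨x, hx⟩ := exists_prime_orderOf_dvd_card' (G := C) p (ham ▸ hpm.mul_left _)
    refine ⟨x, by rw [orderOf_coe, hx], (mem_centralizer_singleton_iff.1 x.2).symm, ?_⟩
    rintro rfl
    exact hm.not_two_dvd_nat hpm
  rcases eq_or_ne m 1 with rfl | hm1
  · exact Cfsg.Agent.S0144.result 2 3 a 0 Nat.prime_two Nat.prime_three (by rw [ham, pow_zero])
  obtain ⟨r, hr, hrm⟩ := Nat.exists_prime_and_dvd hm1
  obtain ⟨x, hx, hxt, hr2⟩ := key r hr hrm
  have hm' : m = r ^ m.primeFactorsList.length := Nat.eq_prime_pow_of_unique_prime_dvd hm.pos.ne'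
    fun {d} hd hdm => by
      obtain ⟨y, hy, hyt, hd2⟩ := key d hd hdm
      exact eq_of_commute h h4 ht hd hr hd2 hr2 hy hx hyt hxt
  exact Cfsg.Agent.S0144.result 2 r a _ Nat.prime_two hr (ham.trans (by rw [← hm']))

/-- A minimal-exponent element acting nontrivially on a Sylow 2-subgroup. -/
theorem exists_mover (hns : ¬ Group.IsSolvable G) (S : Sylow 2 G) :
    ∃ (y : G) (s : ℕ), s.Prime ∧ s ≠ 2 ∧ orderOf y = s ∧ y ∈ normalizer (S : Set G) ∧
      y ∉ centralizer (S : Set G) := by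
  haveI : Fact (Nat.Prime 2) := ⟨Nat.prime_two⟩
  obtain ⟨g, hgN, hgC⟩ : ∃ g ∈ normalizer (S : Set G), g ∉ centralizer (S : Set G) := by
    by_contra hno
    push Not at hno
    obtain ⟨N, hN, hc⟩ := CfsgLib.CIT.FrobSystem.exists_complement S hno
    haveI := hN
    haveI : Group.IsSolvable N := Cfsg.Agent.S0205.result (Nat.odd_iff.2 (by
      have h1 : ¬ 2 ∣ Nat.card N := hc.index_eq_card ▸ S.not_dvd_index
      omega))
    obtain ⟨k, hk⟩ := IsPGroup.iff_card.1 S.2
    haveI : Group.IsNilpotent (G ⧸ N) := (IsPGroup.of_card (n := k) (G := G ⧸ N) (p := 2)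
      (by rw [← index_eq_card, hc.symm.index_eq_card]; exact hk)).isNilpotent
    exact hns (Group.isSolvable_of_ker_le_range N.subtype (QuotientGroup.mk' N)
      (by rw [QuotientGroup.ker_mk', range_subtype]))
  obtain ⟨y, hy, hpp, hyC⟩ : ∃ y ∈ zpowers g, IsPrimePow (orderOf y) ∧ y ∉ centralizer (S : Set G) := by
    by_contra hno
    push Not at hno
    exact hgC (CfsgLib.CIT.FrobSystem.closure_prime_powers g (isOfFinOrder_of_finite g) _ hno)
  have hyN : y ∈ normalizer (S : Set G) := zpowers_le.2 hgN hy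
  obtain ⟨s, j, hs, hj, hord⟩ := (isPrimePow_nat_iff _).1 hpp
  have hs2 : s ≠ 2 := by
    rintro rfl
    refine hyC ?_
    have hp : IsPGroup 2 (zpowers y) := IsPGroup.of_card (n := j) (by rw [Nat.card_zpowers, hord])
    have hle : zpowers y ≤ S := by
      have hsup := IsPGroup.to_sup_of_normal_left' S.2 hp (zpowers_le.2 hyN)
      exact le_sup_right.trans (S.3 hsup le_sup_left).le
    exact mem_centralizer_iff.2 fun a ha => congrArg Subtype.val
      ((abSylow h h4 S).is_comm.comm ⟨a, ha⟩ ⟨y, hle (mem_zpowers y)⟩)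
  have hlen : j ≤ 2 := by
    have := h.length_le y
    rwa [← hord, hs.primeFactorsList_pow, List.length_replicate] at this
  rcases (show j = 1 ∨ j = 2 by omega) with rfl | rfl
  · exact ⟨y, s, hs, hs2, by rw [← hord, pow_one], hyN, hyC⟩
  have hz : orderOf (y ^ s) = s := by
    rw [orderOf_pow_of_dvd hs.ne_zero (hord ▸ dvd_pow_self s two_ne_zero), ← hord, pow_two,
      Nat.mul_div_cancel _ hs.pos]
  refine ⟨y ^ s, s, hs, hs2, hz, pow_mem hyN s, fun hzC => ?_⟩
  -- `y ^ s` commutes with an involution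
  obtain ⟨t, ht⟩ := CfsgLib.AbelianSolvCent.exists_involution hns
  obtain ⟨P, hP⟩ := (CfsgLib.Signalizer.isPGroup_zpowers_involution ht).exists_le_sylow
  obtain ⟨c, hc⟩ := MulAction.exists_smul_eq G P S
  have htS : c * t * c⁻¹ ∈ (S : Subgroup G) := by
    rw [← hc]
    exact Set.smul_mem_smul_set (hP (mem_zpowers t))
  have ht' : orderOf (c * t * c⁻¹) = 2 := ((MulAut.conj c).orderOf_eq t).trans ht
  have h2s : orderOf (c * t * c⁻¹ * y ^ s) = 2 * s := by
    rw [(show Commute (c * t * c⁻¹) (y ^ s) from mem_centralizer_iff.1 hzC _ htS).orderOf_mul_eq_mul_orderOf_of_coprime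
      (by rw [ht', hz]; exact (Nat.coprime_primes Nat.prime_two hs).2 (Ne.symm hs2)), ht', hz]
  have := hs.two_le
  exact h s hs (y ^ s) (c * t * c⁻¹ * y ^ s) y (by rw [hz, h2s]; omega) (by rw [h2s, ← hord]; intro e; have : 3 ≤ s := Nat.lt_of_le_of_ne hs.two_le (Ne.symm hs2); nlinarith)
    (by rw [hz, ← hord]; intro e; nlinarith) ⟨by rw [hz], h2s ▸ dvd_mul_left s 2, hord ▸ dvd_pow_self s two_ne_zero⟩

/-- No normal elementary 2-subgroup. -/
theorem eq_bot_of_two_group (hns : ¬ Group.IsSolvable G) (V : Subgroup G) [V.Normal] (hV : IsPGroup 2 V) :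
    V = ⊥ := by
  haveI : Fact (Nat.Prime 2) := ⟨Nat.prime_two⟩
  by_contra hne
  obtain ⟨v, hv, hv1⟩ := V.bot_or_exists_ne_one.resolve_left hne
  obtain ⟨S⟩ := (inferInstance : Nonempty (Sylow 2 G))
  have hVS : V ≤ S := hV.le_sylow_of_normal S
  set C := centralizer (V : Set G) with hC
  have hSC : (S : Subgroup G) ≤ C := fun a ha => mem_centralizer_iff.2 fun m hm =>
    congrArg Subtype.val ((abSylow h h4 S).is_comm.comm ⟨m, hVS hm⟩ ⟨a, ha⟩)
  haveI : Group.IsSolvable (G ⧸ C) := Cfsg.Agent.S0205.result (by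
    rw [← Subgroup.index_eq_card, Nat.odd_iff]
    have : ¬ 2 ∣ C.index := fun h' => S.not_dvd_index (h'.trans (Subgroup.index_dvd_of_le hSC))
    omega)
  have hv2 := CfsgLib.Signalizer.orderOf_eq_two_of hv1 (sq_eq_one_of_two h h4 hV hv)
  haveI : Group.IsSolvable C := CfsgLib.Core.isSolvable_of_le (solvCent h h4 v hv2)
    fun c hc => mem_centralizer_singleton_iff.2 (mem_centralizer_iff.1 hc v hv).symm
  exact hns (Group.isSolvable_of_ker_le_range C.subtype (QuotientGroup.mk' C)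
    (by rw [QuotientGroup.ker_mk', range_subtype]))

omit h h4 in
theorem exponent_quotient (h4 : ∀ x : G, ¬ 4 ∣ orderOf x) (N : Subgroup G) [N.Normal] :
    ∀ x : G ⧸ N, ¬ 4 ∣ orderOf x := by
  intro x hx
  obtain ⟨g, rfl⟩ := QuotientGroup.mk'_surjective N x
  exact h4 g (hx.trans (orderOf_map_dvd _ g))

/-- An abelian odd normal subgroup of prime exponent is trivial. -/
theorem eq_bot_of_odd_elementary (hns : ¬ Group.IsSolvable G) (W : Subgroup G) [W.Normal] {r : ℕ}
    (hr : r.Prime) (hr2 : r ≠ 2) (hab : ∀ a b : W, a * b = b * a) (hexp : ∀ a : W, a ^ r = 1) : W = ⊥ := by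
  classical
  haveI : Fact (Nat.Prime 2) := ⟨Nat.prime_two⟩
  haveI := Fact.mk hr
  haveI : IsMulCommutative W := IsMulCommutative.of_comm hab
  by_contra hW
  obtain ⟨S⟩ := (inferInstance : Nonempty (Sylow 2 G))
  have hord : ∀ w ∈ W, w ≠ 1 → orderOf w = r := fun w hw hw1 =>
    orderOf_eq_prime (congrArg Subtype.val (hexp ⟨w, hw⟩)) hw1
  -- a product of order `2 r`
  obtain ⟨t, w, ht, hwW, hw1, htw⟩ : ∃ t w : G, orderOf t = 2 ∧ w ∈ W ∧ w ≠ 1 ∧ Commute t w := by
    have hbig : 2 < Nat.card ↥(S : Subgroup G) := by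
      by_contra hle
      refine hns (CfsgLib.OddGated.isSolvable_of_complement (fun N hN => Cfsg.Agent.S0205.result hN)
        (CfsgLib.OddGated.complement_of_cyclic S ?_))
      obtain ⟨k, hk⟩ := IsPGroup.iff_card.1 S.2
      rcases k with _ | _ | k
      · haveI : Subsingleton ↥(S : Subgroup G) := (Nat.card_eq_one_iff_unique.1 (by rw [hk, pow_zero])).1
        infer_instance
      · exact isCyclic_of_prime_card (p := 2) (by rw [hk]; rfl)
      · exfalso
        rw [hk, pow_succ, pow_succ] at hle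
        have := Nat.one_le_two_pow (n := k)
        omega
    obtain ⟨a, ha, ha1⟩ := (S : Subgroup G).bot_or_exists_ne_one.resolve_left fun e => by
      rw [e, Subgroup.card_bot] at hbig; omega
    obtain ⟨b, hb, hba⟩ : ∃ b ∈ (S : Subgroup G), b ∉ zpowers a := by
      by_contra hno
      push Not at hno
      have hle := card_le_of_le (hno : (S : Subgroup G) ≤ zpowers a)
      rw [Nat.card_zpowers, CfsgLib.Signalizer.orderOf_eq_two_of ha1 (sq_eq_one_of_two h h4 S.2 ha)] at hle
      omega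
    have hao := CfsgLib.Signalizer.orderOf_eq_two_of ha1 (sq_eq_one_of_two h h4 S.2 ha)
    have hbo := CfsgLib.Signalizer.orderOf_eq_two_of (fun e => hba (by rw [e]; exact one_mem _)) (sq_eq_one_of_two h h4 S.2 hb)
    have habo : orderOf (a * b) = 2 := CfsgLib.Signalizer.orderOf_eq_two_of
      (fun e => hba (by rw [eq_inv_of_mul_eq_one_right e]; exact inv_mem (mem_zpowers a)))
      (sq_eq_one_of_two h h4 S.2 (mul_mem ha hb))
    obtain ⟨w, hw, hw1⟩ := W.bot_or_exists_ne_one.resolve_left hW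
    by_contra hno
    push Not at hno
    have hinv : ∀ t : G, orderOf t = 2 → ∀ n ∈ W, t * n * t⁻¹ = n⁻¹ := fun t ht =>
      CfsgLib.CIT.inverts_of_fpf ht (fun n hn => ‹W.Normal›.conj_mem n hn t) fun n hn e => by
        by_contra hn1
        exact hno t n ht hn hn1 (mul_inv_eq_iff_eq_mul.1 e)
    have h1 : a * b * w * (a * b)⁻¹ = w := by
      calc a * b * w * (a * b)⁻¹ = a * (b * w * b⁻¹) * a⁻¹ := by group
        _ = w := by rw [hinv b hbo w hw, hinv a hao _ (inv_mem hw), inv_inv]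
    exact hno (a * b) w habo hw hw1 (mul_inv_eq_iff_eq_mul.1 h1)
  have h2r : orderOf (t * w) = 2 * r := by
    rw [htw.orderOf_mul_eq_mul_orderOf_of_coprime (by rw [ht, hord w hwW hw1]; exact (Nat.coprime_primes Nat.prime_two hr).2 (Ne.symm hr2)), ht, hord w hwW hw1]
  have hr' : ∀ x : G, r ∣ orderOf x → orderOf x = r ∨ orderOf x = 2 * r := fun x hx => by
    have := hr.two_le
    have := h.eq_or_eq hr (a := w) (b := t * w) (by rw [hord w hwW hw1, h2r]; omega)
      (hord w hwW hw1 ▸ dvd_rfl) (h2r ▸ dvd_mul_left r 2) hx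
    rwa [hord w hwW hw1, h2r] at this
  -- the centraliser is solvable, hence odd
  set C := centralizer (W : Set G) with hC
  have hCo : ∀ x ∈ C, Odd (orderOf x) := by
    intro x hx
    rw [← Nat.not_even_iff_odd, even_iff_two_dvd]
    intro h2
    have hns' : Group.IsSolvable C := by
      obtain ⟨a, m, hm, ham⟩ := Nat.exists_eq_two_pow_mul_odd (Nat.card_pos (α := C)).ne'
      have hm' : m = r ^ m.primeFactorsList.length := Nat.eq_prime_pow_of_unique_prime_dvd hm.pos.ne'
        fun {p} hp hpm => by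
          by_contra hpr
          haveI := Fact.mk hp
          obtain ⟨z, hz⟩ := exists_prime_orderOf_dvd_card' (G := C) p (ham ▸ hpm.mul_left _)
          have hzo : orderOf (z : G) = p := by rw [orderOf_coe, hz]
          have hp2 : p ≠ 2 := fun e => hm.not_two_dvd_nat (e ▸ hpm)
          have hzw : Commute w (z : G) := mem_centralizer_iff.1 z.2 w hwW
          have hpr' : orderOf (w * z) = r * p := by
            rw [hzw.orderOf_mul_eq_mul_orderOf_of_coprime (by rw [hord w hwW hw1, hzo]; exact (Nat.coprime_primes hr hp).2 (Ne.symm hpr)), hord w hwW hw1, hzo]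
          have := hp.two_le
          have := hr.two_le
          have : 3 ≤ p := Nat.lt_of_le_of_ne hp.two_le (Ne.symm hp2)
          rcases hr' (w * z) (hpr' ▸ dvd_mul_right r p) with e' | e' <;> rw [hpr'] at e' <;> nlinarith [e']
      exact Cfsg.Agent.S0144.result 2 r a _ Nat.prime_two hr (ham.trans (by rw [← hm']))
    -- modulo the odd core it is trivial
    set O := Cfsg.oddCore G with hOdef
    have hnsQ : ¬ Group.IsSolvable (G ⧸ O) := CfsgLib.GW.DGroup.not_isSolvable_quotient O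
      (Cfsg.Agent.S0205.result (CfsgLib.GW.DGroup.odd_oddCore G)) hns
    have hK : C.map (QuotientGroup.mk' O) ≠ ⊥ := by
      intro hb
      have hxC : (x ^ (orderOf x / 2)) ∈ C := pow_mem hx _
      have h1 := mem_map_of_mem (QuotientGroup.mk' O) hxC
      rw [hb, mem_bot, QuotientGroup.mk'_apply, QuotientGroup.eq_one_iff] at h1
      have h2' : orderOf (x ^ (orderOf x / 2)) = 2 := orderOf_pow_orderOf_div (orderOf_pos x).ne' h2
      have h3 := Subgroup.orderOf_dvd_natCard _ h1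
      rw [h2'] at h3
      exact (CfsgLib.GW.DGroup.odd_oddCore G).not_two_dvd_nat h3
    haveI : (C.map (QuotientGroup.mk' O)).Normal :=
      Subgroup.Normal.map inferInstance _ (QuotientGroup.mk'_surjective O)
    haveI := hns'
    obtain ⟨V, p, hVn, hp, hVb, -, hVexp⟩ := CfsgLib.Recog.Spectrum.exists_elementary_of_solvable
      (C.map (QuotientGroup.mk' O)) hK
      (Group.isSolvable_of_surjective (f := (QuotientGroup.mk' O).subgroupMap C)
        ((QuotientGroup.mk' O).subgroupMap_surjective C))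
    haveI := hVn
    haveI := Fact.mk hp
    have hVp : IsPGroup p V := fun z => ⟨1, by rw [pow_one]; exact hVexp z⟩
    refine hVb ?_
    by_cases hp2 : p = 2
    · subst hp2
      exact eq_bot_of_two_group (h.of_map _ (QuotientGroup.mk'_surjective O)) (exponent_quotient h4 O) hnsQ V hVp
    · obtain ⟨k, hk⟩ := IsPGroup.iff_card.1 hVp
      have hle := CfsgLib.ZStar.le_oddCore hVn (hk ▸ (hp.odd_of_ne_two hp2).pow)
      rwa [show Cfsg.oddCore (G ⧸ O) = ⊥ from CfsgLib.Core.pPrimeCore_quotient_pPrimeCore 2 G, le_bot_iff] at hle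
  -- the mover
  obtain ⟨y, s, hs, hs2, hy, hyN, hyC⟩ := exists_mover h h4 hns S
  have hconj : ∀ i : ℕ, ∀ a ∈ (S : Subgroup G), (y ^ i)⁻¹ * a * y ^ i ∈ (S : Subgroup G) := fun i a ha => by
    have h1 := (mem_normalizer_iff.1 (inv_mem (pow_mem hyN i)) a).1 ha
    rwa [inv_inv] at h1
  have hScomm : ∀ a ∈ (S : Subgroup G), ∀ b ∈ (S : Subgroup G), a * b = b * a := fun a ha b hb =>
    congrArg Subtype.val ((abSylow h h4 S).is_comm.comm ⟨a, ha⟩ ⟨b, hb⟩)
  let E : Subgroup G :=
    { carrier := {e | ∃ a ∈ (S : Subgroup G), e = a⁻¹ * ((y ^ 1)⁻¹ * a * y ^ 1)}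
      one_mem' := ⟨1, one_mem _, by group⟩
      mul_mem' := by
        rintro _ _ ⟨a, ha, rfl⟩ ⟨b, hb, rfl⟩
        refine ⟨a * b, mul_mem ha hb, ?_⟩
        have h1 := hScomm _ (hconj 1 a ha) _ (inv_mem hb)
        calc a⁻¹ * ((y ^ 1)⁻¹ * a * y ^ 1) * (b⁻¹ * ((y ^ 1)⁻¹ * b * y ^ 1))
            = a⁻¹ * (((y ^ 1)⁻¹ * a * y ^ 1) * b⁻¹) * ((y ^ 1)⁻¹ * b * y ^ 1) := by group
          _ = a⁻¹ * b⁻¹ * ((y ^ 1)⁻¹ * (a * b) * y ^ 1) := by rw [h1]; group
          _ = (a * b)⁻¹ * ((y ^ 1)⁻¹ * (a * b) * y ^ 1) := by rw [hScomm _ (inv_mem ha) _ (inv_mem hb)]; group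
      inv_mem' := by
        rintro _ ⟨a, ha, rfl⟩
        refine ⟨a⁻¹, inv_mem ha, ?_⟩
        rw [mul_inv_rev, inv_inv, hScomm _ (inv_mem (hconj 1 a ha)) _ ha]
        group }
  have hES : E ≤ S := by
    rintro _ ⟨a, ha, rfl⟩
    exact mul_mem (inv_mem ha) (hconj 1 a ha)
  have hfix : ∀ e ∈ E, (y ^ 1)⁻¹ * e * y ^ 1 = e → e = 1 := by
    rintro e ⟨a, ha, he⟩ hye
    have hiter : ∀ i : ℕ, (y ^ i)⁻¹ * a * y ^ i = a * e ^ i := by
      intro i
      induction i with
      | zero => simp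
      | succ i ih =>
        calc (y ^ (i + 1))⁻¹ * a * y ^ (i + 1) = y⁻¹ * ((y ^ i)⁻¹ * a * y ^ i) * y := by rw [pow_succ]; group
          _ = (y⁻¹ * a * y) * (y⁻¹ * e * y) ^ i := by
            rw [ih, show (y⁻¹ * e * y) ^ i = y⁻¹ * e ^ i * y by simpa using conj_pow (i := i) (a := y⁻¹) (b := e)]
            group
          _ = a * e * e ^ i := by
            rw [show y⁻¹ * e * y = e by simpa using hye, he, pow_one, mul_inv_cancel_left]
          _ = a * e ^ (i + 1) := by rw [pow_succ', mul_assoc]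
    have h1 := hiter s
    rw [← hy, pow_orderOf_eq_one, inv_one, one_mul, mul_one, eq_comm, mul_eq_left, hy] at h1
    obtain ⟨c, rfl⟩ := hs.odd_of_ne_two hs2
    rwa [pow_succ, pow_mul, pow_two, sq_eq_one_of_two h h4 S.2 (hES ⟨a, ha, he⟩), one_pow, one_mul] at h1
  have hEy : ∀ i : ℕ, ∀ e ∈ E, (y ^ i)⁻¹ * e * y ^ i ∈ E := by
    rintro i _ ⟨a, ha, rfl⟩
    exact ⟨(y ^ i)⁻¹ * a * y ^ i, hconj i a ha, by group⟩
  have hfree : ∀ i : ℕ, 0 < i → i < s → ∀ e ∈ E, (y ^ i)⁻¹ * e * y ^ i = e → e = 1 := by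
    intro i hi his e he hie
    refine hfix e he ?_
    have hcop : Nat.Coprime i (orderOf y) := by
      rw [hy]
      exact ((hs.coprime_iff_not_dvd).2 fun hd => by have := Nat.le_of_dvd hi hd; omega).symm
    obtain ⟨m, hm⟩ := exists_pow_eq_self_of_coprime hcop
    have hc : Commute e (y ^ i) := by
      calc e * y ^ i = y ^ i * ((y ^ i)⁻¹ * e * y ^ i) := by group
        _ = y ^ i * e := by rw [hie]
    have h2 := hc.pow_right m
    rw [hm] at h2
    rw [pow_one, mul_assoc, h2.eq, inv_mul_cancel_left]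
  obtain ⟨e, he, he1⟩ : ∃ e ∈ E, e ≠ 1 := by
    by_contra hno
    push Not at hno
    refine hyC (mem_centralizer_iff.2 fun a ha => ?_)
    have h1 := hno _ ⟨a, ha, rfl⟩
    rw [pow_one, inv_mul_eq_one] at h1
    conv_rhs => rw [h1]
    group
  obtain ⟨k, hk⟩ := IsPGroup.iff_card.1 (S.2.to_le hES)
  obtain ⟨l, hl⟩ := IsPGroup.iff_card.1 (fun z : W => ⟨1, by rw [pow_one]; exact hexp z⟩ : IsPGroup r W)
  obtain ⟨v, hv, hvy⟩ := exists_mul_pow_ne (MonoidHom.id G) Function.surjective_id W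
    (by rw [MonoidHom.ker_eq_bot_iff _ |>.2 Function.injective_id]; exact bot_le) E y hs.one_lt.le hEy hfree
    (by rw [hk, hl]; exact ((Nat.coprime_primes hr Nat.prime_two).2 hr2).pow _ _)
    ⟨e, he, by
      by_contra hno
      push Not at hno
      have h1 := hCo e (mem_centralizer_iff.2 fun w' hw' => ((mul_inv_eq_iff_eq_mul.1 (hno w' hw')).symm))
      rw [CfsgLib.Signalizer.orderOf_eq_two_of he1 (sq_eq_one_of_two h h4 S.2 (hES he))] at h1
      exact absurd h1 (by decide)⟩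
  rw [← hy, pow_orderOf_eq_one, hy] at hvy
  have hvyr : ((v * y) ^ s) ^ r = 1 := by
    have hmem : (v * y) ^ s ∈ W := by
      rw [← QuotientGroup.eq_one_iff, QuotientGroup.mk_pow, QuotientGroup.mk_mul,
        (QuotientGroup.eq_one_iff v).2 hv, one_mul, ← QuotientGroup.mk_pow, ← hy, pow_orderOf_eq_one,
        QuotientGroup.mk_one]
    exact congrArg Subtype.val (hexp ⟨_, hmem⟩)
  have h1 : orderOf ((v * y) ^ s) = r := orderOf_eq_prime hvyr hvy
  have hdvd : s ∣ orderOf (v * y) := by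
    have h2 : ((v * y : G) : G ⧸ W) = (y : G ⧸ W) := by
      rw [QuotientGroup.mk_mul, (QuotientGroup.eq_one_iff v).2 hv, one_mul]
    have h3 : orderOf (y : G ⧸ W) ∣ s := hy ▸ orderOf_map_dvd (QuotientGroup.mk' W) y
    rcases (Nat.dvd_prime hs).1 h3 with e' | e'
    · rw [orderOf_eq_one_iff, QuotientGroup.eq_one_iff] at e'
      have hsr : s = r := hy ▸ hord y e' fun e1 => hs.ne_one (by rw [← hy, e1, orderOf_one])
      subst hsr
      refine h1 ▸ (orderOf_pow_dvd _)
    · rw [← e', ← h2]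
      exact orderOf_map_dvd (QuotientGroup.mk' W) (v * y)
  have h2 : orderOf (v * y) = s * r := by
    rw [orderOf_pow_of_dvd hs.ne_zero hdvd] at h1
    rw [← h1, Nat.mul_div_cancel' hdvd]
  rcases hr' (v * y) (h2 ▸ dvd_mul_left r s) with e' | e' <;> rw [h2] at e'
  · exact hs.ne_one (Nat.mul_eq_right hr.ne_zero |>.1 e')
  · exact hs2 (Nat.eq_of_mul_eq_mul_right hr.pos e')

/-- No solvable normal subgroup. -/
theorem eq_bot_of_solvable (hns : ¬ Group.IsSolvable G) (K : Subgroup G) [K.Normal] (hK : Group.IsSolvable K) :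
    K = ⊥ := by
  by_contra hKb
  obtain ⟨V, p, hVn, hp, hVb, hVc, hVexp⟩ := CfsgLib.Recog.Spectrum.exists_elementary_of_solvable K hKb hK
  haveI := hVn
  by_cases hp2 : p = 2
  · subst hp2
    exact hVb (eq_bot_of_two_group h h4 hns V fun z => ⟨1, by rw [pow_one]; exact hVexp z⟩)
  · exact hVb (eq_bot_of_odd_elementary h h4 hns V hp hp2 hVc hVexp)

theorem oddCore_eq_bot (hns : ¬ Group.IsSolvable G) : Cfsg.oddCore G = ⊥ := by
  haveI : (Cfsg.oddCore G).Normal := inferInstance
  exact eq_bot_of_solvable h h4 hns _ (Cfsg.Agent.S0205.result (CfsgLib.GW.DGroup.odd_oddCore G))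

end CfsgLib.ThreeOrders
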