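import Cfsg.Agent.Lib.Known.AutPSL.FieldClass

/-!
# A group between `PSL(2, q)` and its automorphism group (S4371)

Outside `N ≅ PSL(2, q)` lies an element acting as a standard field automorphism of prime order, or as
`semilin h σ` with `det h` a non-square and `σ² = 1`.
-/

set_option autoImplicit false

namespace CfsgLib.ThreeOrders

open Subgroup Matrix CfsgLib.Known.AutPSL

variable {F : Type*} [Field F] [Fintype F]

/-- The squares among the units. -/
def sqUnits (F : Type*) [Field F] : Subgroup Fˣ := (powMonoidHom 2 : Fˣ →* Fˣ).range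

theorem sqUnits_mul {u v : Fˣ} (hu : u ∉ sqUnits F) (hv : v ∉ sqUnits F) : u * v ∈ sqUnits F := by
  have h := index_powMonoidHom_range (F := F) 2
  rcases (Nat.dvd_prime Nat.prime_two).1 (Nat.gcd_dvd_left 2 (Fintype.card F - 1)) with e | e
  · exact absurd ((show sqUnits F = ⊤ from Subgroup.index_eq_one.1 (h.trans e)).symm ▸ mem_top u) hu
  · exact (Subgroup.mul_mem_iff_of_index_two (h.trans e)).2 (iff_of_false hu hv)

theorem sqUnits_map (σ : F ≃+* F) {u : Fˣ} (hu : Units.map (σ : F →* F) u ∈ sqUnits F) : u ∈ sqUnits F := by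
  obtain ⟨c, hc⟩ := hu
  refine ⟨Units.map (σ.symm : F →* F) c, Units.ext ?_⟩
  have h := congrArg (fun w : Fˣ => σ.symm (w : F)) hc
  simpa using h

theorem det_glMap {n : ℕ} (σ : F ≃+* F) (h : GL (Fin n) F) :
    GeneralLinearGroup.det (glMap σ h) = Units.map (σ : F →* F) (GeneralLinearGroup.det h) :=
  Units.ext (RingHom.map_det σ.toRingHom (h : Matrix (Fin n) (Fin n) F)).symm

variable {G : Type*} [Group G] [Finite G] (N : Subgroup G) [N.Normal] (e : N ≃* PSL 2 F)

/-- The action on `PSL(2, q)`. -/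
def act : G →* MulAut (PSL 2 F) := (MulAut.congr e).toMonoidHom.comp MulAut.conjNormal

theorem act_apply (g : G) (n : N) : act N e g (e n) = e (MulAut.conjNormal g n) := by
  simp [act, MulAut.congr]

theorem act_coe (n : N) : act N e (n : G) = MulAut.conj (e n) := by
  refine MulEquiv.ext fun y => ?_
  obtain ⟨m, rfl⟩ := e.surjective y
  rw [act_apply, MulAut.conj_apply, ← map_inv, ← map_mul, ← map_mul]
  exact congrArg e (Subtype.ext (by simp))

variable {N} (hC : centralizer (N : Set G) = ⊥)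
include hC

theorem act_injective : Function.Injective (act N e) := by
  refine (injective_iff_map_eq_one _).2 fun g hg => ?_
  rw [← Subgroup.mem_bot, ← hC, mem_centralizer_iff]
  intro n hn
  have h := act_apply N e g ⟨n, hn⟩
  rw [hg, MulAut.one_apply] at h
  have h1 : n = g * n * g⁻¹ := by simpa using congrArg Subtype.val (e.injective h)
  exact (mul_inv_eq_iff_eq_mul.1 h1.symm).symm

omit hC in
/-- Within a coset only the square class of the determinant matters. -/
theorem semilin_mem_range {h h' : GL (Fin 2) F} {σ : F ≃+* F} (hh : semilin h σ ∈ (act N e).range)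
    (hd : GeneralLinearGroup.det (h' * h⁻¹) ∈ sqUnits F) : semilin h' σ ∈ (act N e).range := by
  obtain ⟨c, hc⟩ := hd
  have hI : semilin (h' * h⁻¹) (RingEquiv.refl F) ∈ Cfsg.Inn (PSL 2 F) := by
    rw [← mkAut_false]
    exact (mem_inn_iff le_rfl _ _ _ (fun _ => rfl)).2 ⟨rfl, rfl, c, hc.symm⟩
  obtain ⟨y, hy⟩ := hI
  have hmem : semilin (h' * h⁻¹) (RingEquiv.refl F) * semilin h σ ∈ (act N e).range :=
    mul_mem ⟨e.symm y, by rw [act_coe, e.apply_symm_apply]; exact hy⟩ hh
  rwa [semilin_mul, show glMap (RingEquiv.refl F) h = h from Units.ext (by simp), inv_mul_cancel_right,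
    show σ.trans (RingEquiv.refl F) = σ from RingEquiv.ext fun _ => rfl] at hmem

theorem outer_cases (hne : N ≠ ⊤) :
    (∃ (x : G) (σ : F ≃+* F) (r : ℕ), r.Prime ∧ orderOf σ = r ∧ orderOf x = r ∧ act N e x = fieldHom 2 F σ) ∨
      ∃ (σ : F ≃+* F) (h : GL (Fin 2) F), (σ = 1 ∨ orderOf σ = 2) ∧
        GeneralLinearGroup.det h ∉ sqUnits F ∧ semilin h σ ∈ (act N e).range := by
  classical
  haveI : Finite (F ≃+* F) := Finite.of_injective (fun τ => (τ : F → F)) DFunLike.coe_injective
  obtain ⟨g, hg⟩ : ∃ g, g ∉ N := by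
    by_contra hno
    push Not at hno
    exact hne (eq_top_iff.2 fun x _ => hno x)
  obtain ⟨h, σ, hσ | ⟨h3, -⟩⟩ := exists_eq_semilin le_rfl (act N e g)
  swap
  · omega
  have hmem : semilin h σ ∈ (act N e).range := ⟨g, hσ⟩
  have field : ∀ (h : GL (Fin 2) F) (σ : F ≃+* F) (r : ℕ), r.Prime → orderOf σ = r →
      semilin h σ ∈ (act N e).range → GeneralLinearGroup.det h ∈ sqUnits F →
      ∃ (x : G) (σ : F ≃+* F) (r : ℕ), r.Prime ∧ orderOf σ = r ∧ orderOf x = r ∧ act N e x = fieldHom 2 F σ := by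
    intro h σ r hr hσr hh hd
    obtain ⟨x, hx⟩ := semilin_mem_range e hh (h' := 1) (by rw [one_mul, map_inv]; exact inv_mem hd)
    exact ⟨x, σ, r, hr, hσr, by
      rw [← orderOf_injective _ (act_injective e hC) x, hx, ← fieldHom_apply, orderOf_fieldHom le_rfl, hσr], hx⟩
  by_cases hσ1 : σ = 1
  · subst hσ1
    refine Or.inr ⟨1, h, Or.inl rfl, fun hd => hg ?_, hmem⟩
    obtain ⟨c, hc⟩ := hd
    have hI : semilin h (1 : F ≃+* F) ∈ Cfsg.Inn (PSL 2 F) := by
      rw [← mkAut_false]
      exact (mem_inn_iff le_rfl _ _ _ (fun _ => rfl)).2 ⟨rfl, rfl, c, hc.symm⟩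
    obtain ⟨y, hy⟩ := hI
    have he : act N e g = act N e (e.symm y) := by rw [hσ, act_coe, e.apply_symm_apply, hy]
    exact (act_injective e hC he) ▸ (e.symm y).2
  -- a power with a field part of prime order
  obtain ⟨r, hr, hrd⟩ := Nat.exists_prime_and_dvd (mt orderOf_eq_one_iff.1 hσ1)
  set k := orderOf σ / r
  have hk : orderOf (σ ^ k) = r := orderOf_pow_orderOf_div (orderOf_pos σ).ne' hrd
  obtain ⟨h1, -, hpow⟩ := semilin_pow h σ k
  have hmem1 : semilin h1 (σ ^ k) ∈ (act N e).range := hpow ▸ pow_mem hmem k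
  by_cases hd : GeneralLinearGroup.det h1 ∈ sqUnits F
  · exact Or.inl (field h1 (σ ^ k) r hr hk hmem1 hd)
  rcases eq_or_ne r 2 with rfl | hr2
  · exact Or.inr ⟨σ ^ k, h1, Or.inr hk, hd, hmem1⟩
  refine Or.inl (field (h1 * glMap (σ ^ k) h1) ((σ ^ k) ^ 2) r hr ?_ ?_ ?_)
  · rw [orderOf_pow' _ two_ne_zero, hk, ((Nat.coprime_primes hr Nat.prime_two).2 hr2).gcd_eq_one, Nat.div_one]
  · have := mul_mem hmem1 hmem1
    rw [semilin_mul] at this
    rw [pow_two]
    exact this
  · rw [map_mul, det_glMap]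
    exact sqUnits_mul hd fun h' => hd (sqUnits_map _ h')

end CfsgLib.ThreeOrders
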