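import Cfsg.Agent.Lib.ThreeOrders.Basic
import Cfsg.Agent.Lib.ThreeOrders.NormGroup

/-!
# A nontrivial 2-core in a CIT group with even orders 2 and 4 (S4371)

Its quotient has no Frobenius subgroup with complement of order three or four and no elementary group of
order nine.
-/

set_option autoImplicit false
set_option linter.style.haveILetI false

namespace CfsgLib.ThreeOrders

open Subgroup
open scoped IsMulCommutative

universe u

variable {G : Type u} [Group G] [Finite G] (hC : CfsgLib.CIT.CIT G) (R : Subgroup G) [R.Normal]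
  (hR : IsPGroup 2 R) (hRb : R ≠ ⊥)

omit hC in
include hR hRb in
theorem exists_central :
    ∃ V : Subgroup G, V.Normal ∧ IsMulCommutative V ∧ V ≤ R ∧ V ≠ ⊥ ∧ R ≤ centralizer (V : Set G) := by
  haveI : Fact (Nat.Prime 2) := ⟨Nat.prime_two⟩
  haveI : Nontrivial R := (nontrivial_iff_ne_bot R).2 hRb
  haveI := hR.center_nontrivial
  refine ⟨(center R).map R.subtype, inferInstance, IsMulCommutative.of_comm ?_, map_subtype_le _, fun e => ?_, ?_⟩
  · rintro ⟨_, a, ha, rfl⟩ ⟨_, b, hb, rfl⟩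
    exact Subtype.ext (congrArg (Subtype.val : R → G) ((mem_center_iff.1 hb) a))
  · rw [map_eq_bot_iff_of_injective _ R.subtype_injective] at e
    exact (nontrivial_iff_ne_bot (center R)).1 inferInstance e
  · intro r hr
    rw [mem_centralizer_iff]
    rintro _ ⟨a, ha, rfl⟩
    exact (congrArg Subtype.val ((mem_center_iff.1 ha) ⟨r, hr⟩)).symm

include hC hR in
/-- Lifts of nontrivial odd elements of the quotient act without fixed points. -/
theorem eq_one_of_fixed {V : Subgroup G} (hVR : V ≤ R) (hcen : R ≤ centralizer (V : Set G)) {g : G}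
    (hodd : Odd (orderOf (g : G ⧸ R))) (hg1 : (g : G ⧸ R) ≠ 1) {v : G} (hv : v ∈ V) (hgv : g * v = v * g) :
    v = 1 := by
  obtain ⟨a, m, hm, ham⟩ := Nat.exists_eq_two_pow_mul_odd (orderOf_pos g).ne'
  obtain ⟨k, hk⟩ := CfsgLib.CIT.orderOf_two_pow_of_mem hR (hVR hv)
  refine hC.eq_one (x := g ^ 2 ^ a) ?_ ?_ hk ((show Commute g v from hgv).pow_left _).eq
  · rw [orderOf_pow_of_dvd (by positivity) (ham ▸ dvd_mul_right _ m), ham, Nat.mul_div_cancel_left _ (by positivity)]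
    exact hm
  · intro e
    refine hg1 ?_
    have h1 : (g : G ⧸ R) ^ 2 ^ a = 1 := by rw [← QuotientGroup.mk_pow, e, QuotientGroup.mk_one]
    have h2 := Nat.dvd_gcd (orderOf_dvd_of_pow_eq_one h1) dvd_rfl
    rwa [((Nat.coprime_two_left.2 hodd).pow_left a).gcd_eq_one, Nat.dvd_one, orderOf_eq_one_iff] at h2

include hC hR hRb in
/-- No Frobenius subgroup of odd kernel with complement of order three in the quotient. -/
theorem no_frobenius_three (K : Subgroup (G ⧸ R)) (hK : Odd (Nat.card K)) (hKb : K ≠ ⊥) (y : G ⧸ R)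
    (hy : y ^ 3 = 1) (hy1 : y ≠ 1) (hn : ∀ i : ℕ, ∀ k ∈ K, (y ^ i)⁻¹ * k * y ^ i ∈ K)
    (hfree : ∀ i : ℕ, 0 < i → i < 3 → ∀ k ∈ K, (y ^ i)⁻¹ * k * y ^ i = k → k = 1) : False := by
  haveI : Fact (Nat.Prime 2) := ⟨Nat.prime_two⟩
  haveI : Fact (Nat.Prime 3) := ⟨Nat.prime_three⟩
  obtain ⟨V, hVn, hVc, hVR, hVb, hcen⟩ := exists_central R hR hRb
  haveI := hVn
  haveI := hVc
  have hy3 : orderOf y = 3 := orderOf_eq_prime hy hy1
  obtain ⟨g0, hg0⟩ := QuotientGroup.mk_surjective y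
  obtain ⟨a, m, hm, ham⟩ := Nat.exists_eq_two_pow_mul_odd (orderOf_pos g0).ne'
  set g := g0 ^ 4 ^ a with hgdef
  have hg : (g : G ⧸ R) = y := by
    rw [hgdef, QuotientGroup.mk_pow, hg0]
    conv_rhs => rw [← pow_one y]
    rw [pow_eq_pow_iff_modEq, hy3, Nat.ModEq, Nat.pow_mod]
    norm_num
  have hg3 : g ^ 3 = 1 := by
    have hmem : g ^ 3 ∈ R := by rw [← QuotientGroup.eq_one_iff, QuotientGroup.mk_pow, hg, hy]
    refine CfsgLib.CIT.eq_one_of_odd_of_pGroup hR hmem ?_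
    have h1 : (g ^ 3) ^ m = 1 := by
      rw [← pow_mul, hgdef, ← pow_mul]
      refine orderOf_dvd_iff_pow_eq_one.1 ?_
      rw [ham]
      exact mul_dvd_mul (pow_dvd_pow_of_dvd (by norm_num) a) (dvd_mul_left m 3)
    exact hm.of_dvd_nat (orderOf_dvd_of_pow_eq_one h1)
  obtain ⟨k, hk⟩ := IsPGroup.iff_card.1 (hR.to_le hVR)
  obtain ⟨k0, hk0, hk01⟩ := K.bot_or_exists_ne_one.resolve_left hKb
  obtain ⟨v, hv, hvy⟩ := exists_mul_pow_ne (QuotientGroup.mk' R) (QuotientGroup.mk'_surjective R) V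
    (by rw [QuotientGroup.ker_mk']; exact hcen) K g (n := 3) (by norm_num)
    (fun i k hk => by rw [QuotientGroup.mk'_apply, hg]; exact hn i k hk)
    (fun i hi hi3 k hk he => hfree i hi hi3 k hk (by rw [QuotientGroup.mk'_apply, hg] at he; exact he))
    (by rw [hk]; exact (Nat.coprime_two_left.2 hK).pow_left k) (by
      obtain ⟨c, rfl⟩ := QuotientGroup.mk'_surjective R k0
      refine ⟨c, hk0, ?_⟩
      by_contra hno
      push Not at hno
      obtain ⟨v, hv, hv1⟩ := V.bot_or_exists_ne_one.resolve_left hVb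
      exact hv1 (eq_one_of_fixed hC R hR hVR hcen (hK.of_dvd_nat (Subgroup.orderOf_dvd_natCard K hk0)) hk01 hv
        (mul_inv_eq_iff_eq_mul.1 (hno v hv))))
  rw [hg3] at hvy
  have hN : (v * g) ^ 3 ∈ V := by
    rw [← QuotientGroup.eq_one_iff, QuotientGroup.mk_pow, QuotientGroup.mk_mul,
      (QuotientGroup.eq_one_iff v).2 hv, one_mul, ← QuotientGroup.mk_pow, hg3, QuotientGroup.mk_one]
  refine hvy (eq_one_of_fixed hC R hR hVR hcen (g := g) (by rw [hg, hy3]; decide) (hg ▸ hy1) hN ?_)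
  have hcv : Commute v ((v * g) ^ 3) :=
    congrArg Subtype.val (mul_comm' (⟨v, hv⟩ : V) ⟨_, hN⟩)
  have hcg : Commute (v⁻¹ * (v * g)) ((v * g) ^ 3) := hcv.inv_left.mul_left (Commute.self_pow _ _)
  rw [inv_mul_cancel_left] at hcg
  exact hcg.eq

include hC hR hRb in
/-- No Frobenius subgroup of odd kernel with complement of order four in the quotient. -/
theorem no_frobenius_four (h24 : ∀ x : G, 2 ∣ orderOf x → orderOf x = 2 ∨ orderOf x = 4)
    (K : Subgroup (G ⧸ R)) (hK : Odd (Nat.card K)) (hKb : K ≠ ⊥) (y : G ⧸ R)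
    (hy : orderOf y = 4) (hn : ∀ i : ℕ, ∀ k ∈ K, (y ^ i)⁻¹ * k * y ^ i ∈ K)
    (hfree : ∀ i : ℕ, 0 < i → i < 4 → ∀ k ∈ K, (y ^ i)⁻¹ * k * y ^ i = k → k = 1) : False := by
  haveI : Fact (Nat.Prime 2) := ⟨Nat.prime_two⟩
  obtain ⟨V, hVn, hVc, hVR, hVb, hcen⟩ := exists_central R hR hRb
  haveI := hVn
  haveI := hVc
  obtain ⟨g, rfl⟩ := QuotientGroup.mk'_surjective R y
  have h4 : ∀ z : G, (z : G ⧸ R) = (g : G ⧸ R) → z ^ 4 = 1 := fun z hz => by
    have hd : 4 ∣ orderOf z := hy ▸ (QuotientGroup.mk'_apply R g).symm ▸ hz ▸ orderOf_map_dvd (QuotientGroup.mk' R) z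
    rcases h24 z ((show 2 ∣ 4 by norm_num).trans hd) with e | e
    · rw [e] at hd; norm_num at hd
    · rw [← e, pow_orderOf_eq_one]
  obtain ⟨k, hk⟩ := IsPGroup.iff_card.1 (hR.to_le hVR)
  obtain ⟨k0, hk0, hk01⟩ := K.bot_or_exists_ne_one.resolve_left hKb
  obtain ⟨v, hv, hvy⟩ := exists_mul_pow_ne (QuotientGroup.mk' R) (QuotientGroup.mk'_surjective R) V
    (by rw [QuotientGroup.ker_mk']; exact hcen) K g (n := 4) (by norm_num) hn hfree
    (by rw [hk]; exact (Nat.coprime_two_left.2 hK).pow_left k) (by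
      obtain ⟨c, rfl⟩ := QuotientGroup.mk'_surjective R k0
      refine ⟨c, hk0, ?_⟩
      by_contra hno
      push Not at hno
      obtain ⟨v, hv, hv1⟩ := V.bot_or_exists_ne_one.resolve_left hVb
      exact hv1 (eq_one_of_fixed hC R hR hVR hcen (hK.of_dvd_nat (Subgroup.orderOf_dvd_natCard K hk0)) hk01 hv
        (mul_inv_eq_iff_eq_mul.1 (hno v hv))))
  exact hvy (by rw [h4 g rfl, h4 (v * g) (by rw [QuotientGroup.mk_mul,
    (QuotientGroup.eq_one_iff v).2 (hVR hv), one_mul])])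

include hC hR hRb in
/-- No elementary group of order nine in the quotient. -/
theorem no_nine (a b : G ⧸ R) (ha : a ^ 3 = 1) (hb : b ^ 3 = 1) (hab : a * b = b * a) (ha1 : a ≠ 1) (hb1 : b ≠ 1)
    (hba : b ≠ a) (hba' : b ≠ a * a) : False := by
  haveI : Fact (Nat.Prime 2) := ⟨Nat.prime_two⟩
  haveI : Fact (Nat.Prime 3) := ⟨Nat.prime_three⟩
  obtain ⟨V, hVn, hVc, hVR, hVb, hcen⟩ := exists_central R hR hRb
  haveI := hVn
  haveI := hVc
  let φ : G ⧸ R →* MulAut V := QuotientGroup.lift R MulAut.conjNormal fun g hg => by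
    rw [MonoidHom.mem_ker]
    refine MulEquiv.ext fun v => Subtype.ext ?_
    rw [MulAut.conjNormal_apply, MulAut.one_apply]
    exact mul_inv_eq_iff_eq_mul.2 (mem_centralizer_iff.1 (hcen hg) v v.2).symm
  have hne2 : ∀ z : G ⧸ R, z ^ 3 = 1 → z ≠ 1 → ∀ v : V, φ z v = v → v = 1 := by
    intro z hz hz1 v hzv
    obtain ⟨g, rfl⟩ := QuotientGroup.mk_surjective z
    have h1 := congrArg Subtype.val hzv
    simp only [φ, QuotientGroup.lift_mk, MulAut.conjNormal_apply] at h1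
    exact Subtype.ext (eq_one_of_fixed hC R hR hVR hcen (by rw [orderOf_eq_prime hz hz1]; decide) hz1 v.2
      (mul_inv_eq_iff_eq_mul.1 h1))
  have hc : Commute a b := hab
  have hpa : (a ^ 2) ^ 3 = 1 := by rw [← pow_mul, mul_comm, pow_mul, ha, one_pow]
  have hab1 : a * b ≠ 1 := fun e => hba' (by
    rw [eq_inv_of_mul_eq_one_right e, inv_eq_of_mul_eq_one_right]
    rw [← pow_two, ← pow_succ', ha])
  have ha2b : a ^ 2 * b ≠ 1 := fun e => hba (by
    rw [eq_inv_of_mul_eq_one_right e, inv_eq_of_mul_eq_one_right]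
    rw [← pow_succ, ha])
  obtain ⟨k, hk⟩ := IsPGroup.iff_card.1 (hR.to_le hVR)
  obtain ⟨v, hv, hv1⟩ := V.bot_or_exists_ne_one.resolve_left hVb
  refine hv1 (congrArg Subtype.val (eq_one_of_nine (φ a) (φ b) (by rw [← map_pow, ha, map_one])
    (by rw [← map_pow, hb, map_one]) (by rw [← map_mul, hab, map_mul])
    (by rw [hk]; exact ((Nat.coprime_primes Nat.prime_two Nat.prime_three).2 (by norm_num)).pow_left k) ?_
    (⟨v, hv⟩ : V)))
  rintro x (rfl | rfl | rfl | hx) w hw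
  · exact hne2 a ha ha1 w hw
  · exact hne2 b hb hb1 w hw
  · rw [← map_mul] at hw
    exact hne2 _ (by rw [hc.mul_pow, ha, hb, one_mul]) hab1 w hw
  · rw [hx, ← map_pow, ← map_mul] at hw
    exact hne2 _ (by rw [(hc.pow_left 2).mul_pow, hpa, hb, one_mul]) ha2b w hw

end CfsgLib.ThreeOrders
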